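import Mathlib
import Cfsg.Prelude.Def_KGroupFacts

/-!
# The outer automorphism group of the derived group of a group with 3-transpositions: the axioms

The structure `Ax D L` lists what the argument for `Out(L)` uses; it is filled for type M(24) in `Conc`.
-/

set_option autoImplicit false

namespace Cfsg.Agent.Lib.OutF24

variable {G : Type*} [Group G]

/-- The members of `D` commuting with `a`, other than `a`. -/
def N (D : Set G) (a : G) : Set G := {y | y ∈ D ∧ y ≠ a ∧ Commute a y}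

/-- Products of two distinct commuting members. -/
def E2 (D : Set G) (x : G) : Prop := ∃ a ∈ D, ∃ b ∈ D, a ≠ b ∧ Commute a b ∧ a * b = x

/-- Products of four distinct commuting members. -/
def E4 (D : Set G) (x : G) : Prop :=
  ∃ a ∈ D, ∃ b ∈ D, ∃ c ∈ D, ∃ e ∈ D, a ≠ b ∧ a ≠ c ∧ a ≠ e ∧ b ≠ c ∧ b ≠ e ∧ c ≠ e ∧
    Commute a b ∧ Commute a c ∧ Commute a e ∧ Commute b c ∧ Commute b e ∧ Commute c e ∧ a * b * c * e = x

/-- The axioms. -/
structure Ax (D : Set G) (L : Subgroup G) : Prop where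
  sq : ∀ d ∈ D, d * d = 1
  cj : ∀ g : G, ∀ d ∈ D, g * d * g⁻¹ ∈ D
  gen : Subgroup.closure D = ⊤
  tr : ∀ a ∈ D, ∀ b ∈ D, ∃ g : G, g * a * g⁻¹ = b
  tr1 : ∀ a ∈ D, ∀ b ∈ N D a, ∀ c ∈ N D a, ∃ g : G, Commute g a ∧ g * b * g⁻¹ = c
  idx : L.index = 2
  notL : ∀ d ∈ D, d ∉ L
  zG : Subgroup.center G = ⊥
  cardD : D.ncard = 306936
  cardN : ∀ a ∈ D, (N D a).ncard = 31671
  uniq : ∀ a ∈ D, ∀ b ∈ D, ∀ c ∈ D, ∀ e ∈ D, a ≠ b → c ≠ e → Commute a b → Commute c e → a * b = c * e →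
    (a = c ∧ b = e) ∨ (a = e ∧ b = c)
  no24 : ∀ x, E2 D x → E4 D x → False
  invol : ∀ x ∈ L, x * x = 1 → x ≠ 1 → E2 D x ∨ E4 D x
  conj4 : ∀ x y, E4 D x → E4 D y → IsConj x y
  eleven : ∀ a ∈ D, ∀ b ∈ N D a, ∀ c ∈ N D a ∩ N D b, ∃ y ∈ L, orderOf y = 11 ∧ Commute y a ∧ Commute y b ∧ Commute y c
  noeleven : ∀ a ∈ D, ∀ c ∈ D, ¬ Commute a c → ∀ y : G, orderOf y = 11 → Commute y a → Commute y c → False
  con0 : ∀ S ⊆ D, S.Nonempty → (∀ u ∈ S, ∀ v ∈ D, Commute u v → v ∈ S) → S = D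
  con1 : ∀ d ∈ D, ∀ S ⊆ N D d, S.Nonempty → (∀ u ∈ S, ∀ v ∈ N D d, Commute u v → v ∈ S) → S = N D d
  con2 : ∀ d ∈ D, ∀ e ∈ N D d, ∀ S ⊆ N D d ∩ N D e, S.Nonempty →
    (∀ u ∈ S, ∀ v ∈ N D d ∩ N D e, Commute u v → v ∈ S) → S = N D d ∩ N D e
  ne2 : ∀ d ∈ D, ∀ e ∈ N D d, (N D d ∩ N D e).Nonempty
  aut : ∀ d ∈ D, ∀ ψ : ↥(L ⊓ Subgroup.centralizer ({d} : Set G)) ≃* ↥(L ⊓ Subgroup.centralizer ({d} : Set G)),
    ∃ h : ↥(L ⊓ Subgroup.centralizer ({d} : Set G)), ∀ x, ψ x = h * x * h⁻¹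
  cK : ∀ d ∈ D, ∀ e ∈ N D d, ∀ g ∈ L, Commute g (d * e) → (∀ t ∈ L, Commute d t → Commute e t → Commute g t) →
    g = 1 ∨ g = d * e
  far : ∀ a ∈ D, ∀ d ∈ N D a, ∃ y ∈ N D a, ¬ Commute d y

variable {D : Set G} {L : Subgroup G}

section basic

variable (H : Ax D L)
include H

theorem inv_eq {d : G} (hd : d ∈ D) : d⁻¹ = d := inv_eq_of_mul_eq_one_left (H.sq d hd)

theorem mul_mem {a b : G} (ha : a ∈ D) (hb : b ∈ D) : a * b ∈ L := by
  rw [Subgroup.mul_mem_iff_of_index_two H.idx]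
  exact iff_of_false (H.notL a ha) (H.notL b hb)

theorem dich (g : G) {d : G} (hd : d ∈ D) : g ∈ L ∨ g * d ∈ L := by
  by_cases h : g ∈ L
  · exact Or.inl h
  · right
    rw [Subgroup.mul_mem_iff_of_index_two H.idx]
    exact iff_of_false h (H.notL d hd)

theorem mem_of_mul_mem {g d : G} (hd : d ∈ D) (h : g * d ∈ L) : g ∉ L := by
  intro hg
  exact H.notL d hd ((Subgroup.mul_mem_cancel_left L hg).1 h)

theorem ne_one {d : G} (hd : d ∈ D) : d ≠ 1 := by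
  intro h
  have := H.notL d hd
  rw [h] at this
  exact this L.one_mem

theorem E2.mem {x : G} (h : E2 D x) : x ∈ L := by
  obtain ⟨a, ha, b, hb, -, -, rfl⟩ := h
  exact mul_mem H ha hb

theorem E2.sq {x : G} (h : E2 D x) : x * x = 1 := by
  obtain ⟨a, ha, b, hb, -, c, rfl⟩ := h
  calc a * b * (a * b) = (a * a) * (b * b) := by
        rw [show a * b * (a * b) = a * (b * a) * b by group, ← c.eq]; group
    _ = 1 := by rw [H.sq a ha, H.sq b hb, one_mul]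

theorem E2.ne {x : G} (h : E2 D x) : x ≠ 1 := by
  obtain ⟨a, ha, b, hb, hne, -, rfl⟩ := h
  intro h1
  apply hne
  have := eq_inv_of_mul_eq_one_left h1
  rw [inv_eq H hb] at this
  exact this

theorem E4.mem {x : G} (h : E4 D x) : x ∈ L := by
  obtain ⟨a, ha, b, hb, c, hc, e, he, -, -, -, -, -, -, -, -, -, -, -, -, rfl⟩ := h
  have h1 := mul_mem H ha hb
  have h2 := mul_mem H hc he
  have e1 : a * b * c * e = (a * b) * (c * e) := by group
  rw [e1]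
  exact L.mul_mem h1 h2

theorem commute_left_of_E2 {a b : G} (c : Commute a b) : Commute a (a * b) := by
  exact (Commute.refl a).mul_right c

end basic

end Cfsg.Agent.Lib.OutF24
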