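import Cfsg.Agent.Lib.OutF24.Inner

/-!
# Automorphisms of `L` preserve the products of two members
-/

set_option autoImplicit false
set_option linter.unusedSectionVars false
set_option linter.unusedVariables false
set_option linter.style.haveILetI false

namespace Cfsg.Agent.Lib.OutF24

variable {G : Type*} [Group G] {D : Set G} {L : Subgroup G}

open Classical in
/-- The automorphism as a map on `G`. -/
noncomputable def A (α : L ≃* L) (x : G) : G := if h : x ∈ L then (α ⟨x, h⟩ : G) else 1

section A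

variable (α : L ≃* L)

theorem A_coe (x : L) : A α (x : G) = α x := by
  unfold A
  rw [dif_pos x.2]

theorem A_eq {x : G} (h : x ∈ L) : A α x = α ⟨x, h⟩ := A_coe α ⟨x, h⟩

theorem A_mem {x : G} (h : x ∈ L) : A α x ∈ L := by
  rw [A_eq α h]
  exact (α ⟨x, h⟩).2

theorem A_mul {x y : G} (hx : x ∈ L) (hy : y ∈ L) : A α (x * y) = A α x * A α y := by
  rw [A_eq α hx, A_eq α hy, A_eq α (L.mul_mem hx hy)]
  have : (⟨x * y, L.mul_mem hx hy⟩ : L) = ⟨x, hx⟩ * ⟨y, hy⟩ := rfl
  rw [this, map_mul]
  rfl

theorem A_one : A α 1 = 1 := by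
  rw [A_eq α L.one_mem]
  have : (⟨1, L.one_mem⟩ : L) = 1 := rfl
  rw [this, map_one]
  rfl

theorem A_inv {x : G} (hx : x ∈ L) : A α x⁻¹ = (A α x)⁻¹ := by
  have h := A_mul α (L.inv_mem hx) hx
  rw [inv_mul_cancel, A_one] at h
  exact eq_inv_of_mul_eq_one_left h.symm

theorem A_inj {x y : G} (hx : x ∈ L) (hy : y ∈ L) (h : A α x = A α y) : x = y := by
  rw [A_eq α hx, A_eq α hy] at h
  have := α.injective (Subtype.ext h)
  exact congrArg Subtype.val this

theorem A_comm {x y : G} (hx : x ∈ L) (hy : y ∈ L) (c : Commute x y) : Commute (A α x) (A α y) := by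
  show A α x * A α y = A α y * A α x
  rw [← A_mul α hx hy, ← A_mul α hy hx, c.eq]

theorem A_ord {x : G} (hx : x ∈ L) : orderOf (A α x) = orderOf x := by
  rw [A_eq α hx, Subgroup.orderOf_coe, MulEquiv.orderOf_eq, Subgroup.orderOf_mk]

end A

/-- The size of a conjugacy class. -/
theorem class_index {T : Type*} [Group T] (x : T) (S : Set T) (h : ∀ y, y ∈ S ↔ ∃ g : T, g * x * g⁻¹ = y) :
    S.ncard = (Subgroup.centralizer ({x} : Set T)).index := by
  have h2 : MulAction.orbit (ConjAct T) x = S := by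
    ext y
    rw [h y, MulAction.mem_orbit_iff]
    constructor
    · rintro ⟨g, rfl⟩
      exact ⟨ConjAct.ofConjAct g, (ConjAct.smul_def g x).symm⟩
    · rintro ⟨g, rfl⟩
      exact ⟨ConjAct.toConjAct g, ConjAct.smul_def _ x⟩
  have h1 : MulAction.stabilizer (ConjAct T) x = (Subgroup.centralizer ({x} : Set T)).map (ConjAct.toConjAct : T ≃* ConjAct T).toMonoidHom := by
    ext g
    rw [MulAction.mem_stabilizer_iff, ConjAct.smul_def, mul_inv_eq_iff_eq_mul]
    constructor
    · intro e
      refine ⟨ConjAct.ofConjAct g, ?_, rfl⟩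
      show ConjAct.ofConjAct g ∈ Subgroup.centralizer ({x} : Set T)
      rw [Subgroup.mem_centralizer_singleton_iff]
      exact e
    · rintro ⟨c, hc, rfl⟩
      have hc' : c ∈ Subgroup.centralizer ({x} : Set T) := hc
      rw [Subgroup.mem_centralizer_singleton_iff] at hc'
      exact hc'
  rw [← h2, ← MulAction.index_stabilizer, h1]
  have hb : Function.Bijective (ConjAct.toConjAct : T ≃* ConjAct T).toMonoidHom := (ConjAct.toConjAct : T ≃* ConjAct T).bijective
  rw [Subgroup.index_map_of_bijective hb]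

/-- A central involution of a Sylow 2-subgroup. -/
theorem exists_central_inv {T : Type*} [Group T] [Finite T] (h2 : 2 ∣ Nat.card T) :
    ∃ z : T, z ≠ 1 ∧ z * z = 1 ∧ ¬ 2 ∣ (Subgroup.centralizer ({z} : Set T)).index := by
  haveI : Fact (Nat.Prime 2) := ⟨Nat.prime_two⟩
  obtain ⟨P⟩ : Nonempty (Sylow 2 T) := inferInstance
  have hi : ¬ 2 ∣ (P : Subgroup T).index := P.not_dvd_index
  have hc := Subgroup.card_mul_index (P : Subgroup T)
  have hdvd : 2 ∣ Nat.card (P : Subgroup T) := by
    rw [← hc] at h2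
    exact (Nat.Prime.dvd_mul Nat.prime_two).1 h2 |>.resolve_right hi
  have hnt : Nontrivial (P : Subgroup T) := by
    apply Finite.one_lt_card_iff_nontrivial.1
    have := Nat.le_of_dvd (Nat.card_pos) hdvd
    omega
  have hpg : IsPGroup 2 (P : Subgroup T) := P.isPGroup'
  have hz : Nontrivial (Subgroup.center (P : Subgroup T)) := hpg.center_nontrivial
  have hzp : IsPGroup 2 (Subgroup.center (P : Subgroup T)) := hpg.to_subgroup _
  have hcard : 2 ∣ Nat.card (Subgroup.center (P : Subgroup T)) := by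
    rcases hzp.card_eq_or_dvd with h | h
    · exfalso
      have := Finite.one_lt_card_iff_nontrivial.2 hz
      omega
    · exact h
  obtain ⟨z, hzo⟩ := exists_prime_orderOf_dvd_card' 2 hcard
  set z₀ : T := ((z : (P : Subgroup T)) : T) with hz₀
  have ho : orderOf z₀ = 2 := by
    rw [hz₀, Subgroup.orderOf_coe, Subgroup.orderOf_coe, hzo]
  refine ⟨z₀, ?_, ?_, ?_⟩
  · intro h
    rw [h, orderOf_one] at ho
    omega
  · rw [← pow_two, ← ho]
    exact pow_orderOf_eq_one z₀
  · intro h
    apply hi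
    refine dvd_trans h (Subgroup.index_dvd_of_le ?_)
    intro x hx
    rw [Subgroup.mem_centralizer_singleton_iff]
    have := (Subgroup.mem_center_iff.1 z.2) ⟨x, hx⟩
    exact congrArg Subtype.val this

section cls

variable [Finite G] (H : Ax D L)
include H

theorem lift_conj {x d : G} (hd : d ∈ D) (c : Commute d x) (g : G) : ∃ g' : L, (g' : G) * x * (g' : G)⁻¹ = g * x * g⁻¹ := by
  rcases dich H g hd with h | h
  · exact ⟨⟨g, h⟩, rfl⟩
  · refine ⟨⟨g * d, h⟩, ?_⟩
    show g * d * x * (g * d)⁻¹ = g * x * g⁻¹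
    rw [mul_inv_rev, inv_eq H hd]
    calc g * d * x * (d * g⁻¹) = g * (d * x) * d * g⁻¹ := by group
      _ = g * (x * d) * d * g⁻¹ := by rw [c.eq]
      _ = g * x * (d * d) * g⁻¹ := by group
      _ = g * x * g⁻¹ := by rw [H.sq d hd]; group

theorem E2_conj {x : G} (h : E2 D x) (g : G) : E2 D (g * x * g⁻¹) := by
  obtain ⟨a, ha, b, hb, hne, c, rfl⟩ := h
  refine ⟨g * a * g⁻¹, H.cj g a ha, g * b * g⁻¹, H.cj g b hb, ?_, ?_, by group⟩
  · intro e
    exact hne (mul_left_cancel (mul_right_cancel e))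
  · exact c.map (MulAut.conj g).toMonoidHom

theorem E4_conj {x : G} (h : E4 D x) (g : G) : E4 D (g * x * g⁻¹) := by
  obtain ⟨a, ha, b, hb, c, hc, e, he, n1, n2, n3, n4, n5, n6, c1, c2, c3, c4, c5, c6, rfl⟩ := h
  have hinj : ∀ {u v : G}, u ≠ v → g * u * g⁻¹ ≠ g * v * g⁻¹ := fun h e => h (mul_left_cancel (mul_right_cancel e))
  have hcm : ∀ {u v : G}, Commute u v → Commute (g * u * g⁻¹) (g * v * g⁻¹) := fun h => h.map (MulAut.conj g).toMonoidHom
  exact ⟨g * a * g⁻¹, H.cj g a ha, g * b * g⁻¹, H.cj g b hb, g * c * g⁻¹, H.cj g c hc, g * e * g⁻¹, H.cj g e he,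
    hinj n1, hinj n2, hinj n3, hinj n4, hinj n5, hinj n6, hcm c1, hcm c2, hcm c3, hcm c4, hcm c5, hcm c6, by group⟩

theorem E2_conjG {x y : G} (hx : E2 D x) (hy : E2 D y) : ∃ g : G, g * x * g⁻¹ = y := by
  obtain ⟨a, ha, b, hb, hne, c, rfl⟩ := hx
  obtain ⟨a', ha', b', hb', hne', c', rfl⟩ := hy
  obtain ⟨g, hg⟩ := H.tr a ha a' ha'
  have h1 : g * b * g⁻¹ ∈ N D a' := by
    refine ⟨H.cj g b hb, ?_, ?_⟩
    · rw [← hg]
      intro e
      exact hne (mul_left_cancel (mul_right_cancel e)).symm
    · rw [← hg]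
      exact c.map (MulAut.conj g).toMonoidHom
  have h2 : b' ∈ N D a' := ⟨hb', hne'.symm, c'⟩
  obtain ⟨k, hk, e⟩ := H.tr1 a' ha' _ h1 _ h2
  refine ⟨k * g, ?_⟩
  calc k * g * (a * b) * (k * g)⁻¹ = (k * (g * a * g⁻¹) * k⁻¹) * (k * (g * b * g⁻¹) * k⁻¹) := by group
    _ = a' * b' := by rw [hg, e, hk.eq]; group

/-- The products of two members, inside `L`. -/
def S2 (D : Set G) (L : Subgroup G) : Set L := {y | E2 D (y : G)}

/-- The products of four members, inside `L`. -/
def S4 (D : Set G) (L : Subgroup G) : Set L := {y | E4 D (y : G)}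

theorem S2_class (x : L) (hx : E2 D (x : G)) (y : L) : y ∈ S2 D L ↔ ∃ g : L, g * x * g⁻¹ = y := by
  constructor
  · intro hy
    obtain ⟨g, hg⟩ := E2_conjG H hx hy
    obtain ⟨a, ha, b, hb, hne, c, e⟩ := hx
    have hcx : Commute a (x : G) := by
      rw [← e]
      exact (Commute.refl a).mul_right c
    obtain ⟨g', hg'⟩ := lift_conj H ha hcx g
    refine ⟨g', Subtype.ext ?_⟩
    show (g' : G) * x * (g' : G)⁻¹ = y
    rw [hg', hg]
  · rintro ⟨g, rfl⟩
    exact E2_conj H hx (g : G)

theorem S4_class (x : L) (hx : E4 D (x : G)) (y : L) : y ∈ S4 D L ↔ ∃ g : L, g * x * g⁻¹ = y := by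
  constructor
  · intro hy
    obtain ⟨g, hg⟩ := isConj_iff.1 (H.conj4 _ _ hx hy)
    obtain ⟨a, ha, b, hb, c, hc, e, he, n1, n2, n3, n4, n5, n6, c1, c2, c3, c4, c5, c6, ex⟩ := hx
    have hcx : Commute a (x : G) := by
      rw [← ex]
      exact (((Commute.refl a).mul_right c1).mul_right c2).mul_right c3
    obtain ⟨g', hg'⟩ := lift_conj H ha hcx g
    refine ⟨g', Subtype.ext ?_⟩
    show (g' : G) * x * (g' : G)⁻¹ = y
    rw [hg', hg]
  · rintro ⟨g, rfl⟩
    exact E4_conj H hx (g : G)

/-- The number of products of two members. -/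
theorem two_mul_ncard_E2 : 2 * {x : G | E2 D x}.ncard = 306936 * 31671 := by
  classical
  haveI := Fintype.ofFinite G
  set T : Finset (G × G) := Finset.univ.filter (fun p => p.1 ∈ D ∧ p.2 ∈ N D p.1) with hT
  have hcD : D.toFinset.card = 306936 := by
    rw [← H.cardD, Set.ncard_eq_toFinset_card']
  have h1 : T.card = 306936 * 31671 := by
    have hf : ∀ p ∈ T, p.1 ∈ D.toFinset := by
      intro p hp
      simp only [hT, Finset.mem_filter, Finset.mem_univ, true_and] at hp
      simpa using hp.1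
    rw [Finset.card_eq_sum_card_fiberwise hf]
    have hfib : ∀ a ∈ D.toFinset, (T.filter (fun p => p.1 = a)).card = 31671 := by
      intro a ha
      have ha' : a ∈ D := by simpa using ha
      have e : T.filter (fun p => p.1 = a) = (N D a).toFinset.image (fun b => (a, b)) := by
        ext ⟨u, v⟩
        simp only [hT, Finset.mem_filter, Finset.mem_univ, true_and, Finset.mem_image, Set.mem_toFinset, Prod.mk.injEq]
        constructor
        · rintro ⟨⟨-, h2⟩, rfl⟩
          exact ⟨v, h2, rfl, rfl⟩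
        · rintro ⟨b, hb, rfl, rfl⟩
          exact ⟨⟨ha', hb⟩, rfl⟩
      rw [e, Finset.card_image_of_injective _ (fun x y h => (Prod.mk.inj h).2), ← Set.ncard_eq_toFinset_card', H.cardN a ha']
    rw [Finset.sum_congr rfl hfib, Finset.sum_const, hcD]
    rfl
  have h2 : T.card = {x : G | E2 D x}.toFinset.card * 2 := by
    have hf : ∀ p ∈ T, p.1 * p.2 ∈ {x : G | E2 D x}.toFinset := by
      intro p hp
      simp only [hT, Finset.mem_filter, Finset.mem_univ, true_and] at hp
      simp only [Set.mem_toFinset, Set.mem_ofPred_eq]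
      exact ⟨p.1, hp.1, p.2, hp.2.1, hp.2.2.1.symm, hp.2.2.2, rfl⟩
    rw [Finset.card_eq_sum_card_fiberwise hf]
    have hfib : ∀ x ∈ {x : G | E2 D x}.toFinset, (T.filter (fun p => p.1 * p.2 = x)).card = 2 := by
      intro x hx
      simp only [Set.mem_toFinset, Set.mem_ofPred_eq] at hx
      obtain ⟨a, ha, b, hb, hne, c, rfl⟩ := hx
      have e : T.filter (fun p => p.1 * p.2 = a * b) = {(a, b), (b, a)} := by
        ext ⟨u, v⟩
        simp only [hT, Finset.mem_filter, Finset.mem_univ, true_and, Finset.mem_insert, Finset.mem_singleton, Prod.mk.injEq]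
        constructor
        · rintro ⟨⟨hu, hv⟩, e⟩
          rcases H.uniq u hu v hv.1 a ha b hb hv.2.1.symm hne hv.2.2 c e with h | h
          · exact Or.inl h
          · exact Or.inr h
        · rintro (⟨rfl, rfl⟩ | ⟨rfl, rfl⟩)
          · exact ⟨⟨ha, hb, hne.symm, c⟩, rfl⟩
          · exact ⟨⟨hb, ha, hne, c.symm⟩, c.symm.eq⟩
      rw [e, Finset.card_pair]
      intro h
      exact hne (Prod.mk.inj h).1
    rw [Finset.sum_congr rfl hfib, Finset.sum_const]
    rfl
  rw [Set.ncard_eq_toFinset_card', mul_comm, ← h2, h1]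

theorem two_dvd_S2 : 2 ∣ (S2 D L).ncard := by
  have h := two_mul_ncard_E2 H
  have e : (S2 D L).ncard = {x : G | E2 D x}.ncard := by
    have : {x : G | E2 D x} = (Subtype.val : L → G) '' (S2 D L) := by
      ext x
      constructor
      · intro hx
        exact ⟨⟨x, E2.mem H hx⟩, hx, rfl⟩
      · rintro ⟨y, hy, rfl⟩
        exact hy
    rw [this, Set.ncard_image_of_injective _ Subtype.val_injective]
  rw [e]
  omega

/-- **An automorphism of `L` maps products of two members to products of two members.** -/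
theorem A_E2 (α : L ≃* L) {x : G} (hx : E2 D x) : E2 D (A α x) := by
  have hxL := E2.mem H hx
  have h2 : 2 ∣ Nat.card L := by
    have hord : orderOf (⟨x, hxL⟩ : L) = 2 := by
      have hp : Nat.Prime 2 := Nat.prime_two
      haveI : Fact (Nat.Prime 2) := ⟨hp⟩
      apply orderOf_eq_prime
      · apply Subtype.ext
        show x ^ 2 = 1
        rw [pow_two]
        exact E2.sq H hx
      · intro e
        exact E2.ne H hx (congrArg Subtype.val e)
    rw [← hord]
    exact orderOf_dvd_natCard _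
  obtain ⟨z, hz1, hzz, hzi⟩ := exists_central_inv h2
  have hz1' : (z : G) ≠ 1 := fun e => hz1 (Subtype.ext e)
  have hzz' : (z : G) * z = 1 := congrArg Subtype.val hzz
  have hS2 : ∀ u : L, E2 D (u : G) → (Subgroup.centralizer ({u} : Set L)).index = (S2 D L).ncard :=
    fun u hu => (class_index u _ (S2_class H u hu)).symm
  have hS4 : ∀ u : L, E4 D (u : G) → (Subgroup.centralizer ({u} : Set L)).index = (S4 D L).ncard :=
    fun u hu => (class_index u _ (S4_class H u hu)).symm
  have hd2 := two_dvd_S2 H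
  have hz4 : E4 D (z : G) := by
    rcases H.invol _ z.2 hzz' hz1' with h | h
    · exact absurd (by rw [hS2 z h]; exact hd2) hzi
    · exact h
  have hA : A α x = (α ⟨x, hxL⟩ : L) := A_eq α hxL
  have hAL := A_mem α hxL
  have hAq : A α x * A α x = 1 := by
    rw [← A_mul α hxL hxL, E2.sq H hx, A_one]
  have hA1 : A α x ≠ 1 := by
    intro e
    have := A_inj α hxL L.one_mem (by rw [e, A_one])
    exact E2.ne H hx this
  rcases H.invol _ hAL hAq hA1 with h | h
  · exact h
  · exfalso
    set x₁ : L := ⟨x, hxL⟩ with hx₁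
    have hi : (Subgroup.centralizer ({α x₁} : Set L)).index = (Subgroup.centralizer ({x₁} : Set L)).index := by
      have e : (Subgroup.centralizer ({x₁} : Set L)).map α.toMonoidHom = Subgroup.centralizer ({α x₁} : Set L) := by
        ext u
        constructor
        · rintro ⟨v, hv, rfl⟩
          have hv' : v ∈ Subgroup.centralizer ({x₁} : Set L) := hv
          rw [Subgroup.mem_centralizer_singleton_iff] at hv' ⊢
          show α v * α x₁ = α x₁ * α v
          rw [← map_mul, ← map_mul, hv']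
        · intro hu
          rw [Subgroup.mem_centralizer_singleton_iff] at hu
          refine ⟨α.symm u, ?_, by simp⟩
          show α.symm u ∈ _
          rw [SetLike.mem_coe, Subgroup.mem_centralizer_singleton_iff]
          apply α.injective
          rw [map_mul, map_mul, MulEquiv.apply_symm_apply]
          exact hu
      rw [← e]
      have hb : Function.Bijective α.toMonoidHom := α.bijective
      exact Subgroup.index_map_of_bijective hb _
    have h4 : E4 D ((α x₁ : L) : G) := by rw [← hA]; exact h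
    rw [hS4 _ h4, hS2 x₁ hx, ← hS4 z hz4] at hi
    exact hzi (by rw [hi]; exact hd2)

end cls

end Cfsg.Agent.Lib.OutF24
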