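import Cfsg.Agent.Lib.OutF24.Star

/-!
# Automorphisms of `L` extend to `G`, and the order of `Out(L)`
-/

set_option autoImplicit false
set_option linter.unusedSectionVars false
set_option linter.unusedVariables false
set_option linter.style.haveILetI false

namespace Cfsg.Agent.Lib.OutF24

variable {G : Type*} [Group G] {D : Set G} {L : Subgroup G}

open Classical in
/-- The extension. -/
noncomputable def F (α : L ≃* L) (a₀ p x : G) : G := if x ∈ L then A α x else A α (x * a₀) * p

theorem F_of_mem (α : L ≃* L) (a₀ p : G) {x : G} (h : x ∈ L) : F α a₀ p x = A α x := by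
  unfold F
  rw [if_pos h]

theorem F_of_not (α : L ≃* L) (a₀ p : G) {x : G} (h : x ∉ L) : F α a₀ p x = A α (x * a₀) * p := by
  unfold F
  rw [if_neg h]

section ext

variable [Finite G] (H : Ax D L)
include H

theorem conj_mem' {a₀ x : G} (ha₀ : a₀ ∈ D) (hx : x ∈ L) : a₀ * x * a₀ ∈ L := by
  have hn : L.Normal := Subgroup.normal_of_index_eq_two H.idx
  have := hn.conj_mem x hx a₀
  rwa [inv_eq H ha₀] at this

variable (α : L ≃* L) {π : G → G} (hπ : ∀ d ∈ D, π d ∈ D ∧ ∀ e ∈ N D d, Has D (A α (d * e)) (π d))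
include hπ

theorem star_conj_aux {a₀ : G} (ha₀ : a₀ ∈ D) {x : G} (hx : x ∈ Subgroup.closure {x | ∃ d ∈ D, ∃ e ∈ D, x = d * e}) :
    x ∈ L ∧ A α (a₀ * x * a₀) = π a₀ * A α x * π a₀ := by
  have hp := (hπ a₀ ha₀).1
  induction hx using Subgroup.closure_induction with
  | mem y hy =>
    obtain ⟨d, hd, e, he, rfl⟩ := hy
    refine ⟨mul_mem H hd he, ?_⟩
    have e1 : a₀ * (d * e) * a₀ = (a₀ * d) * (e * a₀) := by group
    rw [e1, A_mul α (mul_mem H ha₀ hd) (mul_mem H he ha₀), pi_all H α hπ ha₀ hd, pi_all H α hπ he ha₀, pi_all H α hπ hd he]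
    group
  | one =>
    refine ⟨L.one_mem, ?_⟩
    rw [mul_one, H.sq a₀ ha₀, A_one, mul_one, H.sq _ hp]
  | mul u v _ _ h1 h2 =>
    refine ⟨L.mul_mem h1.1 h2.1, ?_⟩
    have e1 : a₀ * (u * v) * a₀ = (a₀ * u * a₀) * (a₀ * v * a₀) := by
      calc a₀ * (u * v) * a₀ = a₀ * u * 1 * v * a₀ := by group
        _ = a₀ * u * (a₀ * a₀) * v * a₀ := by rw [H.sq a₀ ha₀]
        _ = _ := by group
    rw [e1, A_mul α (conj_mem' H ha₀ h1.1) (conj_mem' H ha₀ h2.1), h1.2, h2.2, A_mul α h1.1 h2.1]
    calc π a₀ * A α u * π a₀ * (π a₀ * A α v * π a₀) = π a₀ * A α u * (π a₀ * π a₀) * A α v * π a₀ := by group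
      _ = _ := by rw [H.sq _ hp]; group
  | inv u _ h1 =>
    refine ⟨L.inv_mem h1.1, ?_⟩
    have e1 : a₀ * u⁻¹ * a₀ = (a₀ * u * a₀)⁻¹ := by
      rw [mul_inv_rev, mul_inv_rev, inv_eq H ha₀]
      group
    rw [e1, A_inv α (conj_mem' H ha₀ h1.1), h1.2, A_inv α h1.1, mul_inv_rev, mul_inv_rev, inv_eq H hp]
    group

theorem star_conj {a₀ : G} (ha₀ : a₀ ∈ D) {x : G} (hx : x ∈ L) : A α (a₀ * x * a₀) = π a₀ * A α x * π a₀ :=
  (star_conj_aux H α hπ ha₀ (L_le_closure H hx)).2

theorem F_mul {a₀ : G} (ha₀ : a₀ ∈ D) (x y : G) : F α a₀ (π a₀) (x * y) = F α a₀ (π a₀) x * F α a₀ (π a₀) y := by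
  have hp := (hπ a₀ ha₀).1
  have hpp := H.sq _ hp
  have haa := H.sq a₀ ha₀
  by_cases hx : x ∈ L <;> by_cases hy : y ∈ L
  · rw [F_of_mem α _ _ hx, F_of_mem α _ _ hy, F_of_mem α _ _ (L.mul_mem hx hy), A_mul α hx hy]
  · have hxy : x * y ∉ L := fun h => hy ((Subgroup.mul_mem_cancel_left L hx).1 h)
    have hya : y * a₀ ∈ L := by
      rcases dich H y ha₀ with h | h
      · exact absurd h hy
      · exact h
    rw [F_of_mem α _ _ hx, F_of_not α _ _ hy, F_of_not α _ _ hxy, mul_assoc x y a₀, A_mul α hx hya]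
    group
  · have hxy : x * y ∉ L := fun h => hx ((Subgroup.mul_mem_cancel_right L hy).1 h)
    have hxa : x * a₀ ∈ L := by
      rcases dich H x ha₀ with h | h
      · exact absurd h hx
      · exact h
    have e1 : x * y * a₀ = (x * a₀) * (a₀ * y * a₀) := by
      calc x * y * a₀ = x * 1 * y * a₀ := by group
        _ = x * (a₀ * a₀) * y * a₀ := by rw [haa]
        _ = _ := by group
    rw [F_of_mem α _ _ hy, F_of_not α _ _ hx, F_of_not α _ _ hxy, e1, A_mul α hxa (conj_mem' H ha₀ hy), star_conj H α hπ ha₀ hy]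
    calc A α (x * a₀) * (π a₀ * A α y * π a₀) * π a₀ = A α (x * a₀) * π a₀ * A α y * (π a₀ * π a₀) := by group
      _ = _ := by rw [hpp, mul_one]
  · have hxa : x * a₀ ∈ L := by
      rcases dich H x ha₀ with h | h
      · exact absurd h hx
      · exact h
    have hya : y * a₀ ∈ L := by
      rcases dich H y ha₀ with h | h
      · exact absurd h hy
      · exact h
    have hay : a₀ * y ∈ L := by
      rw [Subgroup.mul_mem_iff_of_index_two H.idx]
      exact iff_of_false (H.notL a₀ ha₀) hy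
    have hxy : x * y ∈ L := by
      rw [Subgroup.mul_mem_iff_of_index_two H.idx]
      exact iff_of_false hx hy
    rw [F_of_mem α _ _ hxy, F_of_not α _ _ hx, F_of_not α _ _ hy]
    have h1 := star_conj H α hπ ha₀ hya
    have e1 : a₀ * (y * a₀) * a₀ = a₀ * y := by
      calc a₀ * (y * a₀) * a₀ = a₀ * y * (a₀ * a₀) := by group
        _ = a₀ * y := by rw [haa, mul_one]
    rw [e1] at h1
    have e2 : x * y = (x * a₀) * (a₀ * y) := by
      calc x * y = x * 1 * y := by group
        _ = x * (a₀ * a₀) * y := by rw [haa]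
        _ = _ := by group
    rw [e2, A_mul α hxa hay, h1]
    group

theorem F_inj {a₀ : G} (ha₀ : a₀ ∈ D) {x : G} (h : F α a₀ (π a₀) x = 1) : x = 1 := by
  have hp := (hπ a₀ ha₀).1
  by_cases hx : x ∈ L
  · rw [F_of_mem α _ _ hx] at h
    apply A_inj α hx L.one_mem
    rw [h, A_one]
  · exfalso
    rw [F_of_not α _ _ hx] at h
    have hxa : x * a₀ ∈ L := by
      rcases dich H x ha₀ with h | h
      · exact absurd h hx
      · exact h
    have h2 : π a₀ = (A α (x * a₀))⁻¹ := eq_inv_of_mul_eq_one_right h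
    apply H.notL _ hp
    rw [h2]
    exact L.inv_mem (A_mem α hxa)

theorem exists_beta {a₀ : G} (ha₀ : a₀ ∈ D) : ∃ g : G, ∀ x : L, ((α x : L) : G) = g * x * g⁻¹ := by
  have hp := (hπ a₀ ha₀).1
  let f : G →* G := MonoidHom.mk' (F α a₀ (π a₀)) (F_mul H α hπ ha₀)
  have hinj : Function.Injective f := by
    rw [injective_iff_map_eq_one]
    intro x hx
    exact F_inj H α hπ ha₀ hx
  have hbij : Function.Bijective f := Finite.injective_iff_bijective.1 hinj
  let β : G ≃* G := MulEquiv.ofBijective f hbij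
  have hβ : ∀ x, β x = F α a₀ (π a₀) x := fun x => rfl
  have hD : ∀ d ∈ D, β d ∈ D := by
    intro d hd
    rw [hβ, F_of_not α _ _ (H.notL d hd), pi_all H α hπ hd ha₀]
    have : π d * π a₀ * π a₀ = π d * (π a₀ * π a₀) := by group
    rw [this, H.sq _ hp, mul_one]
    exact (hπ d hd).1
  obtain ⟨g, hg⟩ := inner_of_D H β hD
  refine ⟨g, fun x => ?_⟩
  rw [← hg, hβ, F_of_mem α _ _ x.2, A_coe]

end ext

section final

variable [Finite G] (H : Ax D L)
include H

/-- **Every automorphism of `L` is induced by conjugation in `G`.** -/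
theorem exists_conj (α : L ≃* L) : ∃ g : G, ∀ x : L, ((α x : L) : G) = g * x * g⁻¹ := by
  obtain ⟨a₀, ha₀⟩ := D_nonempty H
  obtain ⟨π, hπ⟩ := exists_pi H α
  exact exists_beta H α hπ ha₀

/-- An element centralizing `L` is trivial. -/
theorem eq_one_of_cent {g : G} (hg : ∀ x ∈ L, Commute g x) : g = 1 := by
  have key : ∀ d ∈ D, g * d * g⁻¹ = d := by
    intro d hd
    by_contra hne
    have hpair : ∀ e ∈ N D d, g * d * g⁻¹ = e := by
      intro e he
      have h1 : g * d * g⁻¹ ∈ D := H.cj g d hd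
      have h2 : g * e * g⁻¹ ∈ D := H.cj g e he.1
      have hn : g * d * g⁻¹ ≠ g * e * g⁻¹ := fun h => he.2.1 (mul_left_cancel (mul_right_cancel h)).symm
      have c : Commute (g * d * g⁻¹) (g * e * g⁻¹) := he.2.2.map (MulAut.conj g).toMonoidHom
      have e1 : (g * d * g⁻¹) * (g * e * g⁻¹) = d * e := by
        calc (g * d * g⁻¹) * (g * e * g⁻¹) = g * (d * e) * g⁻¹ := by group
          _ = d * e := by rw [(hg _ (mul_mem H hd he.1)).eq]; group
      rcases H.uniq _ h1 _ h2 d hd e he.1 hn he.2.1.symm c he.2.2 e1 with h | h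
      · exact absurd h.1 hne
      · exact h.1
    have h1 : (N D d).ncard ≤ ({g * d * g⁻¹} : Set G).ncard := Set.ncard_le_ncard (fun e he => (hpair e he).symm) (Set.toFinite _)
    rw [H.cardN d hd, Set.ncard_singleton] at h1
    omega
  have hc : g ∈ Subgroup.center G := by
    rw [Subgroup.mem_center_iff]
    intro x
    have hx : x ∈ Subgroup.closure D := by rw [H.gen]; trivial
    induction hx using Subgroup.closure_induction with
    | mem y hy =>
      exact (mul_inv_eq_iff_eq_mul.1 (key y hy)).symm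
    | one => simp
    | mul u v _ _ h1 h2 =>
      calc u * v * g = u * (v * g) := by group
        _ = u * (g * v) := by rw [h2]
        _ = (u * g) * v := by group
        _ = (g * u) * v := by rw [h1]
        _ = g * (u * v) := by group
    | inv u _ h1 =>
      calc u⁻¹ * g = u⁻¹ * (g * u) * u⁻¹ := by group
        _ = u⁻¹ * (u * g) * u⁻¹ := by rw [h1]
        _ = g * u⁻¹ := by group
  rw [H.zG, Subgroup.mem_bot] at hc
  exact hc

/-- **The order of the outer automorphism group.** -/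
theorem card_out : Nat.card (Cfsg.Out L) = 2 := by
  classical
  haveI hn : L.Normal := Subgroup.normal_of_index_eq_two H.idx
  let ρ : G →* MulAut L := MulAut.conjNormal
  have hρ : ∀ (g : G) (x : L), ((ρ g x : L) : G) = g * x * g⁻¹ := fun g x => MulAut.conjNormal_apply g x
  have hinj : Function.Injective ρ := by
    rw [injective_iff_map_eq_one]
    intro g hg
    apply eq_one_of_cent H
    intro x hx
    have := hρ g ⟨x, hx⟩
    rw [hg] at this
    have e : x = g * x * g⁻¹ := this
    exact (mul_inv_eq_iff_eq_mul.1 e.symm)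
  have hsurj : Function.Surjective ρ := by
    intro α
    obtain ⟨g, hg⟩ := exists_conj H α
    refine ⟨g, ?_⟩
    ext x
    rw [hρ, hg]
  have h1 : Nat.card G = Nat.card (MulAut L) := Nat.card_congr (Equiv.ofBijective ρ ⟨hinj, hsurj⟩)
  have hinj2 : Function.Injective (MulAut.conj : L →* MulAut L) := by
    rw [injective_iff_map_eq_one]
    intro x hx
    apply Subtype.ext
    apply eq_one_of_cent H
    intro y hy
    have := congrArg (fun f : MulAut L => f ⟨y, hy⟩) hx
    have e : (x * ⟨y, hy⟩ * x⁻¹ : L) = ⟨y, hy⟩ := this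
    have e2 : (x : G) * y * (x : G)⁻¹ = y := congrArg Subtype.val e
    exact mul_inv_eq_iff_eq_mul.1 e2
  have h2 : Nat.card (Cfsg.Inn L) = Nat.card L :=
    (Nat.card_congr (MonoidHom.ofInjective hinj2).toEquiv).symm
  have h3 := Subgroup.card_mul_index (Cfsg.Inn L)
  have h4 := Subgroup.card_mul_index L
  rw [H.idx] at h4
  rw [h2, ← h1, ← h4] at h3
  have hpos : 0 < Nat.card L := Nat.card_pos
  exact Nat.eq_of_mul_eq_mul_left hpos h3

end final

end Cfsg.Agent.Lib.OutF24
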