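import Cfsg.Agent.Lib.OutF24.Rep

/-!
# Generation of the derived group of type M(24) from the stabilizer of a member
-/

set_option autoImplicit false
set_option linter.unusedSectionVars false
set_option linter.unusedVariables false
set_option linter.style.longLine false
set_option linter.unusedSimpArgs false
set_option linter.unnecessarySimpa false
set_option linter.style.haveILetI false
set_option maxRecDepth 100000

namespace Cfsg.Agent.Lib.OutF24

open Cfsg Cfsg.Agent.Lib.ThreeT.Basic Cfsg.Agent.Lib.ThreeT.Class Cfsg.Agent.Lib.ThreeT.Relations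
open Cfsg.Agent.Lib.ThreeT.Rank3 Cfsg.Agent.Lib.ThreeT.Descent
open Cfsg.Agent.Lib.ThreeT.M23 Cfsg.Agent.Lib.ThreeT.M22 Cfsg.Agent.Lib.ThreeT.M24
open Cfsg.Agent.Lib.Components.Basic Cfsg.Agent.Lib.ThreeT.M24d
open Cfsg.Agent.Lib.ThreeT.F24.CL2
open scoped commutatorElement

section blk

variable {X : Type*} [Group X] {E : Set X}

/-- A subgroup containing the centralizer of a member and moving it is everything. -/
theorem eq_top_of_cent (hp : IsPrimitiveUnderConj E) (hcj : ∀ g : X, ∀ e ∈ E, g * e * g⁻¹ ∈ E) {τ : X} (hτ : τ ∈ E) (T : Subgroup X)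
    (hC : Subgroup.centralizer ({τ} : Set X) ≤ T) {t : X} (ht : t ∈ T) (hm : t * τ * t⁻¹ ≠ τ) : T = ⊤ := by
  set B : Set X := (fun h => h * τ * h⁻¹) '' (T : Set X) with hB
  have hBE : B ⊆ E := by
    rintro _ ⟨h, -, rfl⟩
    exact hcj h τ hτ
  have key : ∀ g : X, ∀ h ∈ T, ∀ h' ∈ T, g * (h * τ * h⁻¹) * g⁻¹ = h' * τ * h'⁻¹ → g ∈ T := by
    intro g h hh h' hh' e
    have h2 : h'⁻¹ * g * h ∈ Subgroup.centralizer ({τ} : Set X) := by
      rw [Subgroup.mem_centralizer_singleton_iff]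
      have e2 : (h'⁻¹ * g * h) * τ * (h'⁻¹ * g * h)⁻¹ = τ := by
        calc (h'⁻¹ * g * h) * τ * (h'⁻¹ * g * h)⁻¹ = h'⁻¹ * (g * (h * τ * h⁻¹) * g⁻¹) * h' := by group
          _ = τ := by rw [e]; group
      calc (h'⁻¹ * g * h) * τ = ((h'⁻¹ * g * h) * τ * (h'⁻¹ * g * h)⁻¹) * (h'⁻¹ * g * h) := by group
        _ = τ * (h'⁻¹ * g * h) := by rw [e2]
    have h3 := hC h2
    have e3 : g = h' * (h'⁻¹ * g * h) * h⁻¹ := by group
    rw [e3]
    exact T.mul_mem (T.mul_mem hh' h3) (T.inv_mem hh)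
  have hblock : ∀ g : X, (fun x => g * x * g⁻¹) '' B = B ∨ Disjoint ((fun x => g * x * g⁻¹) '' B) B := by
    intro g
    by_cases hg : g ∈ T
    · left
      ext y
      constructor
      · rintro ⟨_, ⟨h, hh, rfl⟩, rfl⟩
        exact ⟨g * h, T.mul_mem hg hh, by simp only; group⟩
      · rintro ⟨h, hh, rfl⟩
        refine ⟨_, ⟨g⁻¹ * h, T.mul_mem (T.inv_mem hg) hh, rfl⟩, ?_⟩
        simp only
        group
    · right
      rw [Set.disjoint_left]
      rintro _ ⟨_, ⟨h, hh, rfl⟩, rfl⟩ ⟨h', hh', e⟩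
      exact hg (key g h hh h' hh' e.symm)
  rcases hp.2.2 B hBE hblock with h | h
  · exfalso
    apply hm
    exact h ⟨t, ht, rfl⟩ ⟨1, T.one_mem, by simp⟩
  · rw [eq_top_iff]
    intro x _
    have h1 : x * τ * x⁻¹ ∈ B := by
      rw [h]
      exact hcj x τ hτ
    obtain ⟨h', hh', e⟩ := h1
    exact key x 1 T.one_mem h' hh' (by simpa using e.symm)

end blk

section main

variable {G : Type*} [Group G] [Finite G] {D : Set G}
variable {L : Subgroup G} (H : Hyp D L)
variable {d₁ d₂ : G} (h₁ : d₁ ∈ D) (h₂ : d₂ ∈ D) (hne : d₁ ≠ d₂) (hc : Commute d₁ d₂)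

/-- The stabilizer of a member in `L`. -/
abbrev MM (L : Subgroup G) (d₁ : G) : Subgroup G := L ⊓ Subgroup.centralizer ({d₁} : Set G)

omit [Finite G] in
theorem mem_MM {d₁ x : G} : x ∈ MM L d₁ ↔ x ∈ L ∧ Commute d₁ x := by
  rw [MM, Subgroup.mem_inf, Subgroup.mem_centralizer_singleton_iff]
  exact and_congr_right fun _ => ⟨fun h => h.symm, fun h => h.symm⟩

theorem KK_le_MM {d₁ d₂ : G} : KK L d₁ d₂ ≤ MM L d₁ := by
  intro x hx
  obtain ⟨h1, h2, -⟩ := mem_KK.1 hx
  exact mem_MM.2 ⟨h1, h2⟩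

include H h₁

theorem MM_le : MM L d₁ ≤ Subgroup.closure (Da D d₁) := by
  intro x hx
  rw [(H.hcent d₁ h₁).2, Subgroup.mem_centralizer_iff]
  intro y hy
  rw [Set.mem_singleton_iff] at hy
  rw [hy]
  exact (mem_MM.1 hx).2

include h₂ hne hc

/-- The isomorphism of the stabilizer in `L` with the level below. -/
theorem exists_rho : ∃ ρ : MM L d₁ ≃* (Gd D d₁ ⧸ Subgroup.center (Gd D d₁)), ∀ k : MM L d₁, ρ k = phi D d₁ (k : G) := by
  have hKle := MM_le H h₁ (L := L)
  let ρ : MM L d₁ →* Gd D d₁ ⧸ Subgroup.center (Gd D d₁) :=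
    (QuotientGroup.mk' _).comp (Subgroup.inclusion hKle)
  have hρ : ∀ k, ρ k = phi D d₁ (k : G) := fun k => (phi_eq_of_coe rfl).symm
  have hinj : Function.Injective ρ := by
    rw [injective_iff_map_eq_one]
    intro k hk
    rw [hρ] at hk
    rcases H.hone d₁ h₁ _ (hKle k.2) hk with h2 | h2
    · exact Subtype.ext h2
    · exact absurd ((mem_MM.1 k.2).1) (by rw [h2]; exact H.hLD _ h₁)
  have hsurj : Function.Surjective ρ := by
    intro q
    obtain ⟨h0, rfl⟩ := QuotientGroup.mk_surjective q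
    have hh0 : (h0 : G) ∈ Subgroup.closure (Da D d₁) := h0.2
    have hph : phi D d₁ (h0 : G) = QuotientGroup.mk h0 := phi_eq_of_coe rfl
    obtain ⟨x, hxL, hxH, hx⟩ : ∃ x ∈ L, x ∈ Subgroup.closure (Da D d₁) ∧ phi D d₁ x = QuotientGroup.mk h0 := by
      by_cases hL : (h0 : G) ∈ L
      · exact ⟨h0, hL, hh0, hph⟩
      · refine ⟨(h0 : G) * d₁, mul_mem_L H hL (H.hLD _ h₁), Subgroup.mul_mem _ hh0 (H.hcent d₁ h₁).1, ?_⟩
        rw [phi_mul hh0 (H.hcent d₁ h₁).1, phi_self H h₁ h₂ hne hc, mul_one, hph]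
    have hcx : Commute d₁ x := (commute_of_mem_closure (fun u hu => hu.2.2) hxH)
    exact ⟨⟨x, mem_MM.2 ⟨hxL, hcx⟩⟩, by rw [hρ]; exact hx⟩
  exact ⟨MulEquiv.ofBijective ρ ⟨hinj, hsurj⟩, fun k => hρ k⟩

/-- **The stabilizer of `d₁` in `L` is generated by the two subgroups `K`.** -/
theorem gen_M {d₃ : G} (h₃ : d₃ ∈ D) (h13 : d₁ ≠ d₃) (c13 : Commute d₁ d₃) (h23 : d₂ ≠ d₃) (c23 : Commute d₂ d₃) :
    MM L d₁ ≤ KK L d₁ d₂ ⊔ KK L d₁ d₃ := by
  obtain ⟨ρ, hρ⟩ := exists_rho H h₁ h₂ hne hc (L := L)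
  have Lw := H.hlw d₁ h₁
  have hD := H.hG.1
  have hd₂ := d₂_Da H h₁ h₂ hne hc
  have hd₂' : d₂ ∈ Subgroup.closure (Da D d₁) := Subgroup.subset_closure hd₂
  set S := KK L d₁ d₂ ⊔ KK L d₁ d₃ with hS
  have hKle := MM_le H h₁ (L := L)
  -- the element moving `d₂`
  obtain ⟨b, hb1, hb2⟩ : ∃ b, b ∈ Da D d₁ ∩ Da D d₃ ∧ ¬ Commute d₂ b := by
    by_contra hno
    push Not at hno
    have hm : d₁ * d₂ ∈ KK L d₁ d₃ := by
      refine mem_KK.2 ⟨mul_mem_L H (H.hLD _ h₁) (H.hLD _ h₂), (Commute.refl d₁).mul_right hc, ?_⟩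
      exact c13.symm.mul_right c23.symm
    have h4 : ∀ b ∈ Da D d₁ ∩ Da D d₃, Commute (d₁ * d₂) b := fun b hb => (hb.1.2.2).mul_left (hno b hb)
    rcases center_KK H h₁ h₃ h13 c13 hm h4 with h5 | h5
    · apply hne
      have h8 := mul_self_of_mem hD h₂
      calc d₁ = d₁ * (d₂ * d₂) := by rw [h8, mul_one]
        _ = (d₁ * d₂) * d₂ := by group
        _ = d₂ := by rw [h5, one_mul]
    · apply h23
      exact mul_left_cancel h5
  have hbm : d₁ * b ∈ KK L d₁ d₃ := by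
    refine mem_KK.2 ⟨mul_mem_L H (H.hLD _ h₁) (H.hLD _ hb1.1.1), (Commute.refl d₁).mul_right hb1.1.2.2, ?_⟩
    exact c13.symm.mul_right hb1.2.2.2
  have hb' : b ∈ Subgroup.closure (Da D d₁) := Subgroup.subset_closure hb1.1
  have hbM : d₁ * b ∈ MM L d₁ := KK_le_MM hbm
  have hphib : phi D d₁ (d₁ * b) = phi D d₁ b := by
    rw [phi_mul (H.hcent d₁ h₁).1 hb', phi_self H h₁ h₂ hne hc, one_mul]
  have htop : ((S.subgroupOf (MM L d₁)).map ρ.toMonoidHom) = ⊤ := by
    refine eq_top_of_cent Lw.hp Lw.hG.2.1 (phi_mem hd₂) _ ?_ (t := phi D d₁ (d₁ * b)) ?_ ?_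
    · intro q hq
      obtain ⟨k, rfl⟩ := ρ.surjective q
      rw [Subgroup.mem_centralizer_singleton_iff] at hq
      have hk2 : Commute d₂ (k : G) := by
        have hk := hKle k.2
        have hm : (k : G) * d₂ * (k : G)⁻¹ ∈ Da D d₁ := by
          have h3 := mem_Da_conj H.hG.2.1 (k : G) hd₂
          have e : (k : G) * d₁ * (k : G)⁻¹ = d₁ := by
            rw [((mem_MM.1 k.2).2.symm).eq]
            group
          rwa [e] at h3
        have h4 : phi D d₁ ((k : G) * d₂ * (k : G)⁻¹) = phi D d₁ d₂ := by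
          rw [Cfsg.Agent.Lib.ThreeT.M24.phi_conj' hk hd₂', ← hρ, hq, mul_inv_cancel_right]
        have h5 := phi_inj hD Lw.hNC hm hd₂ h4
        show d₂ * (k : G) = (k : G) * d₂
        calc d₂ * (k : G) = ((k : G) * d₂ * (k : G)⁻¹) * (k : G) := by rw [h5]
          _ = (k : G) * d₂ := by group
      refine ⟨k, ?_, rfl⟩
      rw [SetLike.mem_coe, Subgroup.mem_subgroupOf]
      exact (le_sup_left : KK L d₁ d₂ ≤ S) (mem_KK.2 ⟨(mem_MM.1 k.2).1, (mem_MM.1 k.2).2, hk2⟩)
    · refine ⟨⟨d₁ * b, hbM⟩, ?_, ?_⟩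
      · rw [SetLike.mem_coe, Subgroup.mem_subgroupOf]
        exact (le_sup_right : KK L d₁ d₃ ≤ S) hbm
      · show ρ _ = _
        rw [hρ]
    · rw [hphib]
      intro e
      apply hb2
      have h6 : Commute (phi D d₁ b) (phi D d₁ d₂) := by
        show phi D d₁ b * phi D d₁ d₂ = phi D d₁ d₂ * phi D d₁ b
        calc phi D d₁ b * phi D d₁ d₂ = (phi D d₁ b * phi D d₁ d₂ * (phi D d₁ b)⁻¹) * phi D d₁ b := by group
          _ = _ := by rw [e]
      exact ((phi_comm hD hb1.1 hd₂).1 h6).symm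
  intro x hx
  have h1 : ρ ⟨x, hx⟩ ∈ ((S.subgroupOf (MM L d₁)).map ρ.toMonoidHom) := by
    rw [htop]
    trivial
  obtain ⟨y, hy, hye⟩ := h1
  have h2 : y = ⟨x, hx⟩ := ρ.injective hye
  rw [h2, SetLike.mem_coe, Subgroup.mem_subgroupOf] at hy
  exact hy

/-- **`L` is generated by the stabilizer of `d₁` and an element moving `d₁`.** -/
theorem gen_L (hp : IsPrimitiveUnderConj D) {s : G} (hsL : s ∈ L) (hsc : Commute s (d₁ * d₂)) (es1 : s * d₁ * s⁻¹ = d₂) (es2 : s * d₂ * s⁻¹ = d₁) :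
    L ≤ Subgroup.closure ((MM L d₁ : Set G) ∪ {s}) := by
  have hD := H.hG.1
  have hdd := mul_self_of_mem hD h₁
  have hd2 := mul_self_of_mem hD h₂
  have hdi : d₁⁻¹ = d₁ := inv_eq_of_mul_eq_one_left hdd
  set H₀ := Subgroup.closure ((MM L d₁ : Set G) ∪ {s}) with hH₀
  have hM0 : MM L d₁ ≤ H₀ := fun x hx => Subgroup.subset_closure (Or.inl hx)
  have hs0 : s ∈ H₀ := Subgroup.subset_closure (Or.inr rfl)
  have hu : d₁ * d₂ ∈ MM L d₁ := mem_MM.2 ⟨mul_mem_L H (H.hLD _ h₁) (H.hLD _ h₂), (Commute.refl d₁).mul_right hc⟩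
  have hH0L : H₀ ≤ L := by
    rw [hH₀, Subgroup.closure_le]
    rintro x (hx | hx)
    · exact (mem_MM.1 hx).1
    · rw [Set.mem_singleton_iff] at hx
      rw [hx]
      exact hsL
  have hnorm : ∀ h ∈ H₀, d₁ * h * d₁ ∈ H₀ := by
    intro h hh
    induction hh using Subgroup.closure_induction with
    | mem y hy =>
      rcases hy with hy | hy
      · have e : d₁ * y * d₁ = y := by
          rw [((mem_MM.1 hy).2).eq, mul_assoc, hdd, mul_one]
        rw [e]
        exact hM0 hy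
      · rw [Set.mem_singleton_iff] at hy
        subst hy
        have e : d₁ * y * d₁ = y * (d₁ * d₂) := by
          have e1 : y⁻¹ * d₁ * y = d₂ := by
            rw [← es2]
            group
          calc d₁ * y * d₁ = y * (y⁻¹ * d₁ * y) * d₁ := by group
            _ = y * d₂ * d₁ := by rw [e1]
            _ = y * (d₁ * d₂) := by rw [mul_assoc, hc.symm.eq]
        rw [e]
        exact H₀.mul_mem hs0 (hM0 hu)
    | one =>
      rw [mul_one, hdd]
      exact H₀.one_mem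
    | mul a b _ _ ha hb =>
      have e : d₁ * (a * b) * d₁ = (d₁ * a * d₁) * (d₁ * b * d₁) := by
        calc d₁ * (a * b) * d₁ = d₁ * a * (d₁ * d₁) * b * d₁ := by rw [hdd]; group
          _ = _ := by group
      rw [e]
      exact H₀.mul_mem ha hb
    | inv a _ ha =>
      have e : d₁ * a⁻¹ * d₁ = (d₁ * a * d₁)⁻¹ := by
        rw [mul_inv_rev, mul_inv_rev, hdi]
        group
      rw [e]
      exact H₀.inv_mem ha
  let T : Subgroup G :=
    { carrier := {y | y ∈ H₀ ∨ y * d₁ ∈ H₀}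
      one_mem' := Or.inl H₀.one_mem
      mul_mem' := by
        rintro a b (ha | ha) (hb | hb)
        · exact Or.inl (H₀.mul_mem ha hb)
        · right
          rw [mul_assoc]
          exact H₀.mul_mem ha hb
        · right
          have e : a * b * d₁ = (a * d₁) * (d₁ * b * d₁) := by
            calc a * b * d₁ = a * (d₁ * d₁) * b * d₁ := by rw [hdd, mul_one]
              _ = _ := by group
          rw [e]
          exact H₀.mul_mem ha (hnorm b hb)
        · left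
          have e : a * b = (a * d₁) * (d₁ * (b * d₁) * d₁) := by
            calc a * b = a * (d₁ * d₁) * b * (d₁ * d₁) := by rw [hdd, mul_one, mul_one]
              _ = _ := by group
          rw [e]
          exact H₀.mul_mem ha (hnorm _ hb)
      inv_mem' := by
        rintro a (ha | ha)
        · exact Or.inl (H₀.inv_mem ha)
        · right
          have e : a⁻¹ * d₁ = d₁ * (a * d₁)⁻¹ * d₁ := by
            rw [mul_inv_rev, hdi]
            calc a⁻¹ * d₁ = (d₁ * d₁) * a⁻¹ * d₁ := by rw [hdd, one_mul]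
              _ = _ := by group
          rw [e]
          exact hnorm _ (H₀.inv_mem ha) }
  have htop : T = ⊤ := by
    refine eq_top_of_cent hp H.hG.2.1 h₁ T ?_ (t := s) (Or.inl hs0) ?_
    · intro y hy
      rw [Subgroup.mem_centralizer_singleton_iff] at hy
      by_cases hyL : y ∈ L
      · exact Or.inl (hM0 (mem_MM.2 ⟨hyL, hy.symm⟩))
      · right
        refine hM0 (mem_MM.2 ⟨mul_mem_L H hyL (H.hLD _ h₁), ?_⟩)
        exact (Commute.symm hy).mul_right (Commute.refl d₁) 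
    · rw [es1]
      exact hne.symm
  intro x hx
  have h1 : x ∈ T := by
    rw [htop]
    trivial
  rcases h1 with h2 | h2
  · exact h2
  · exfalso
    have h3 := hH0L h2
    rw [Subgroup.mul_mem_iff_of_index_two H.hLi] at h3
    exact H.hLD _ h₁ (h3.1 hx)

end main

end Cfsg.Agent.Lib.OutF24
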