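import Cfsg.Agent.Lib.OutF24.Ax

/-!
# Automorphisms of `G` preserving `D` are inner
-/

set_option autoImplicit false
set_option linter.unusedSectionVars false
set_option linter.unusedVariables false

namespace Cfsg.Agent.Lib.OutF24

variable {G : Type*} [Group G] {D : Set G} {L : Subgroup G}

theorem mem_KK {d x : G} : x ∈ L ⊓ Subgroup.centralizer ({d} : Set G) ↔ x ∈ L ∧ Commute x d := by
  rw [Subgroup.mem_inf, Subgroup.mem_centralizer_singleton_iff]
  exact Iff.rfl

/-- The restriction of an automorphism. -/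
def resK (β : G ≃* G) (K : Subgroup G) (h : ∀ x, β x ∈ K ↔ x ∈ K) : K ≃* K where
  toFun x := ⟨β x, (h _).2 x.2⟩
  invFun x := ⟨β.symm x, (h _).1 (by simp)⟩
  left_inv x := by ext; simp
  right_inv x := by ext; simp
  map_mul' x y := by ext; simp

/-- Conjugation after an automorphism. -/
def cjAfter (β : G ≃* G) (a : G) : G ≃* G := β.trans (MulAut.conj a)

theorem cjAfter_apply (β : G ≃* G) (a x : G) : cjAfter β a x = a * β x * a⁻¹ := rfl

/-- `β` fixes the centralizer of `a` pointwise. -/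
def Fx (β : G ≃* G) (a : G) : Prop := ∀ x, Commute x a → β x = x

section inner

variable (H : Ax D L)
include H

theorem D_nonempty : D.Nonempty := by
  apply Set.nonempty_of_ncard_ne_zero
  rw [H.cardD]
  norm_num

theorem mem_N_symm {a c : G} (ha : a ∈ D) (hc : c ∈ N D a) : a ∈ N D c :=
  ⟨ha, hc.2.1.symm, hc.2.2.symm⟩

/-- `L` is generated by the products of two members. -/
theorem L_le_closure : L ≤ Subgroup.closure {x | ∃ d ∈ D, ∃ e ∈ D, x = d * e} := by
  obtain ⟨a₀, ha₀⟩ := D_nonempty H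
  set M := Subgroup.closure {x | ∃ d ∈ D, ∃ e ∈ D, x = d * e} with hM
  have hML : M ≤ L := by
    rw [hM, Subgroup.closure_le]
    rintro _ ⟨d, hd, e, he, rfl⟩
    exact mul_mem H hd he
  have key : ∀ g : G, g ∈ M ∨ a₀ * g ∈ M := by
    intro g
    have hg : g ∈ Subgroup.closure D := by rw [H.gen]; trivial
    have step : ∀ d ∈ D, ∀ y, (y ∈ M ∨ a₀ * y ∈ M) → (d * y ∈ M ∨ a₀ * (d * y) ∈ M) := by
      intro d hd y hy
      rcases hy with hy | hy
      · right
        rw [← mul_assoc]
        exact M.mul_mem (Subgroup.subset_closure ⟨a₀, ha₀, d, hd, rfl⟩) hy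
      · left
        have e1 : d * y = (d * a₀) * (a₀ * y) := by
          calc d * y = d * (a₀ * a₀) * y := by rw [H.sq a₀ ha₀]; group
            _ = _ := by group
        rw [e1]
        exact M.mul_mem (Subgroup.subset_closure ⟨d, hd, a₀, ha₀, rfl⟩) hy
    induction hg using Subgroup.closure_induction_left with
    | one => exact Or.inl M.one_mem
    | mul_left d hd y _ ih => exact step d hd y ih
    | inv_mul_cancel d hd y _ ih =>
      rw [inv_eq H hd]
      exact step d hd y ih
  intro x hx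
  rcases key x with h | h
  · exact h
  · exfalso
    have h1 := hML h
    exact H.notL a₀ ha₀ ((Subgroup.mul_mem_cancel_right L hx).1 h1)

variable (β : G ≃* G) (hβ : ∀ d ∈ D, β d ∈ D)
include hβ

theorem beta_L {x : G} (hx : x ∈ L) : β x ∈ L := by
  have h := L_le_closure H hx
  induction h using Subgroup.closure_induction with
  | mem y hy =>
    obtain ⟨d, hd, e, he, rfl⟩ := hy
    rw [map_mul]
    exact mul_mem H (hβ d hd) (hβ e he)
  | one => simp [L.one_mem]
  | mul u v hu hv h1 h2 =>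
    have hu' : u ∈ L := by
      obtain ⟨a₀, ha₀⟩ := D_nonempty H
      have hML : Subgroup.closure {x | ∃ d ∈ D, ∃ e ∈ D, x = d * e} ≤ L := by
        rw [Subgroup.closure_le]
        rintro _ ⟨d, hd, e, he, rfl⟩
        exact mul_mem H hd he
      exact hML hu
    have hv' : v ∈ L := by
      have hML : Subgroup.closure {x | ∃ d ∈ D, ∃ e ∈ D, x = d * e} ≤ L := by
        rw [Subgroup.closure_le]
        rintro _ ⟨d, hd, e, he, rfl⟩
        exact mul_mem H hd he
      exact hML hv
    rw [map_mul]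
    exact L.mul_mem (h1 hu') (h2 hv')
  | inv u hu h1 =>
    have hu' : u ∈ L := by
      have hML : Subgroup.closure {x | ∃ d ∈ D, ∃ e ∈ D, x = d * e} ≤ L := by
        rw [Subgroup.closure_le]
        rintro _ ⟨d, hd, e, he, rfl⟩
        exact mul_mem H hd he
      exact hML hu
    rw [map_inv]
    exact L.inv_mem (h1 hu')

theorem beta_L_iff {x : G} : β x ∈ L ↔ x ∈ L := by
  constructor
  · intro h
    by_contra hx
    obtain ⟨a₀, ha₀⟩ := D_nonempty H
    have h1 : x * a₀ ∈ L := by
      rcases dich H x ha₀ with h2 | h2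
      · exact absurd h2 hx
      · exact h2
    have h2 := beta_L H β hβ h1
    rw [map_mul] at h2
    exact H.notL _ (hβ a₀ ha₀) ((Subgroup.mul_mem_cancel_left L h).1 h2)
  · exact beta_L H β hβ

theorem inner_on {d : G} (hd : d ∈ D) (hfix : β d = d) :
    ∃ h ∈ L, Commute h d ∧ ∀ x ∈ L, Commute x d → β x = h * x * h⁻¹ := by
  have hK : ∀ x, β x ∈ L ⊓ Subgroup.centralizer ({d} : Set G) ↔ x ∈ L ⊓ Subgroup.centralizer ({d} : Set G) := by
    intro x
    rw [mem_KK, mem_KK, beta_L_iff H β hβ]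
    refine and_congr_right fun _ => ?_
    constructor
    · intro h
      have : β (x * d) = β (d * x) := by
        rw [map_mul, map_mul, hfix, h.eq]
      exact β.injective this
    · intro h
      have : β x * β d = β d * β x := by
        rw [← map_mul, ← map_mul, h.eq]
      rw [hfix] at this
      exact this
  obtain ⟨h, hh⟩ := H.aut d hd (resK β _ hK)
  have h2 := mem_KK.1 h.2
  refine ⟨h, h2.1, h2.2, fun x hx hxd => ?_⟩
  have h3 := hh ⟨x, mem_KK.2 ⟨hx, hxd⟩⟩
  exact congrArg Subtype.val h3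

theorem dichK {a c : G} (ha : a ∈ D) (hF : Fx β a) (hc : c ∈ N D a) :
    (∀ x ∈ L, Commute x c → β x = x) ∨ (∀ x ∈ L, Commute x c → β x = a * x * a) := by
  have hcc : β c = c := hF c hc.2.2.symm
  obtain ⟨h, hL, hcomm, hh⟩ := inner_on H β hβ hc.1 hcc
  have key : ∀ t ∈ L, Commute a t → Commute c t → Commute h t := by
    intro t ht h1 h2
    have e1 := hF t h1.symm
    have e2 := hh t ht h2.symm
    rw [e1] at e2
    exact (eq_mul_inv_iff_mul_eq.1 e2).symm
  have hac : a * c ∈ L := mul_mem H ha hc.1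
  have hc1 : Commute h (a * c) := key _ hac ((Commute.refl a).mul_right hc.2.2) (hc.2.2.symm.mul_right (Commute.refl c))
  rcases H.cK a ha c hc h hL hc1 key with h1 | h1
  · left
    intro x hx hxc
    rw [hh x hx hxc, h1]
    simp
  · right
    intro x hx hxc
    rw [hh x hx hxc, h1, mul_inv_rev, inv_eq H hc.1, inv_eq H ha]
    calc a * c * x * (c * a) = a * (c * x) * c * a := by group
      _ = a * (x * c) * c * a := by rw [hxc.symm.eq]
      _ = a * x * (c * c) * a := by group
      _ = a * x * a := by rw [H.sq c hc.1]; group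

theorem adjK {a c c' : G} (ha : a ∈ D) (hF : Fx β a) (hc : c ∈ N D a) (hc' : c' ∈ N D a) (hcc' : Commute c c') (hne : c ≠ c')
    (hI : ∀ x ∈ L, Commute x c → β x = x) (hJ : ∀ x ∈ L, Commute x c' → β x = a * x * a) : False := by
  have key : ∀ t ∈ L, Commute c t → Commute c' t → Commute a t := by
    intro t ht h1 h2
    have e1 := hI t ht h1.symm
    have e2 := hJ t ht h2.symm
    rw [e1] at e2
    show a * t = t * a
    calc a * t = a * (a * t * a) := by rw [← e2]
      _ = (a * a) * t * a := by group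
      _ = t * a := by rw [H.sq a ha, one_mul]
  have hg : c * a ∈ L := mul_mem H hc.1 ha
  have hcN : c' ∈ N D c := ⟨hc'.1, hne.symm, hcc'⟩
  have hca : Commute c a := hc.2.2.symm
  have hc1 : Commute (c * a) (c * c') :=
    (Commute.mul_left (Commute.refl c) hc.2.2).mul_right (Commute.mul_left hcc' hc'.2.2)
  rcases H.cK c hc.1 c' hcN (c * a) hg hc1 (fun t ht h1 h2 => h1.mul_left (key t ht h1 h2)) with h1 | h1
  · apply hc.2.1
    have := eq_inv_of_mul_eq_one_left h1
    rwa [inv_eq H ha] at this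
  · exact hc'.2.1 (mul_left_cancel h1).symm

theorem allK {a : G} (ha : a ∈ D) (hF : Fx β a) :
    (∀ c ∈ N D a, ∀ x ∈ L, Commute x c → β x = x) ∨ (∀ c ∈ N D a, ∀ x ∈ L, Commute x c → β x = a * x * a) := by
  by_cases hex : ∃ c ∈ N D a, ∀ x ∈ L, Commute x c → β x = x
  · left
    obtain ⟨c₀, hc₀, hI₀⟩ := hex
    have hS := H.con1 a ha {c | c ∈ N D a ∧ ∀ x ∈ L, Commute x c → β x = x} (fun c hc => hc.1) ⟨c₀, hc₀, hI₀⟩ (by
      rintro u ⟨hu, hIu⟩ v hv huv
      refine ⟨hv, ?_⟩
      by_cases e : u = v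
      · rw [← e]; exact hIu
      · rcases dichK H β hβ ha hF hv with h | h
        · exact h
        · exact (adjK H β hβ ha hF hu hv huv e hIu h).elim)
    intro c hc
    have : c ∈ {c | c ∈ N D a ∧ ∀ x ∈ L, Commute x c → β x = x} := by rw [hS]; exact hc
    exact this.2
  · right
    intro c hc
    rcases dichK H β hβ ha hF hc with h | h
    · exact (hex ⟨c, hc, h⟩).elim
    · exact h

omit hβ in
theorem fx_of_I {c : G} (hc : c ∈ D) (hcc : β c = c) (hI : ∀ x ∈ L, Commute x c → β x = x) : Fx β c := by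
  intro x hx
  rcases dich H x hc with h | h
  · exact hI x h hx
  · have h1 := hI _ h (hx.mul_left (Commute.refl c))
    rw [map_mul, hcc] at h1
    exact mul_right_cancel h1

theorem A6 {d a : G} (hd : d ∈ D) (hFd : Fx β d) (ha : a ∈ N D d) (hFa : Fx β a) : ∀ c ∈ N D d, Fx β c := by
  rcases allK H β hβ hd hFd with h | h
  · intro c hc
    exact fx_of_I H β hc.1 (hFd c hc.2.2.symm) (h c hc)
  · exfalso
    have hdN : d ∈ N D a := mem_N_symm H hd ha
    obtain ⟨y, hy, hny⟩ := H.far a ha.1 d hdN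
    have hx : a * y ∈ L := mul_mem H ha.1 hy.1
    have hxa : Commute (a * y) a := (Commute.refl a).mul_left hy.2.2.symm
    have e1 := hFa _ hxa
    have e2 := h a ha _ hx hxa
    rw [e1] at e2
    apply hny
    have hda : Commute d a := ha.2.2
    have h3 : Commute d (a * y) := by
      show d * (a * y) = a * y * d
      calc d * (a * y) = d * (d * (a * y) * d) := by rw [← e2]
        _ = (d * d) * (a * y) * d := by group
        _ = a * y * d := by rw [H.sq d hd, one_mul]
    have h4 : y = a * (a * y) := by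
      calc y = (a * a) * y := by rw [H.sq a ha.1, one_mul]
        _ = _ := by group
    rw [h4]
    exact hda.mul_right h3

theorem A7 {a : G} (ha : a ∈ D) (hFa : Fx β a) (hN : ∀ c ∈ N D a, Fx β c) : ∀ x, β x = x := by
  have hS := H.con0 {d | d ∈ D ∧ Fx β d ∧ ∀ c ∈ N D d, Fx β c} (fun d hd => hd.1) ⟨a, ha, hFa, hN⟩ (by
    rintro u ⟨hu, hFu, hNu⟩ v hv huv
    by_cases e : u = v
    · rw [← e]; exact ⟨hu, hFu, hNu⟩
    · have hvN : v ∈ N D u := ⟨hv, fun h => e h.symm, huv⟩
      have hFv := hNu v hvN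
      exact ⟨hv, hFv, A6 H β hβ hv hFv (mem_N_symm H hu hvN) hFu⟩)
  have hall : ∀ d ∈ D, β d = d := by
    intro d hd
    have : d ∈ {d | d ∈ D ∧ Fx β d ∧ ∀ c ∈ N D d, Fx β c} := by rw [hS]; exact hd
    exact this.2.1 d (Commute.refl d)
  intro x
  have hx : x ∈ Subgroup.closure D := by rw [H.gen]; trivial
  induction hx using Subgroup.closure_induction with
  | mem y hy => exact hall y hy
  | one => simp
  | mul u v _ _ h1 h2 => rw [map_mul, h1, h2]
  | inv u _ h1 => rw [map_inv, h1]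

theorem A8 {a : G} (ha : a ∈ D) (hFa : Fx β a) : ∃ g : G, ∀ x, β x = g * x * g⁻¹ := by
  rcases allK H β hβ ha hFa with h | h
  · have hN : ∀ c ∈ N D a, Fx β c := fun c hc => fx_of_I H β hc.1 (hFa c hc.2.2.symm) (h c hc)
    refine ⟨1, fun x => ?_⟩
    rw [A7 H β hβ ha hFa hN x]
    simp
  · have hβ' : ∀ d ∈ D, cjAfter β a d ∈ D := fun d hd => H.cj a _ (hβ d hd)
    have hFa' : Fx (cjAfter β a) a := by
      intro x hx
      rw [cjAfter_apply, hFa x hx, hx.symm.eq]
      group
    have hN : ∀ c ∈ N D a, Fx (cjAfter β a) c := by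
      intro c hc
      refine fx_of_I H _ hc.1 (hFa' c hc.2.2.symm) ?_
      intro x hx hxc
      rw [cjAfter_apply, h c hc x hx hxc, inv_eq H ha]
      calc a * (a * x * a) * a = (a * a) * x * (a * a) := by group
        _ = x := by rw [H.sq a ha]; group
    refine ⟨a⁻¹, fun x => ?_⟩
    have h1 := A7 H _ hβ' ha hFa' hN x
    rw [cjAfter_apply] at h1
    have h2 : β x = a⁻¹ * (a * β x * a⁻¹) * a := by group
    rw [h2, h1]
    group

theorem A9 {a : G} (ha : a ∈ D) (hfix : β a = a) : ∃ g : G, ∀ x, β x = g * x * g⁻¹ := by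
  obtain ⟨h, hL, hcomm, hh⟩ := inner_on H β hβ ha hfix
  have hβ' : ∀ d ∈ D, cjAfter β h⁻¹ d ∈ D := fun d hd => H.cj _ _ (hβ d hd)
  have hfix' : cjAfter β h⁻¹ a = a := by
    rw [cjAfter_apply, hfix, inv_inv, hcomm.inv_left.eq]
    group
  have hF : Fx (cjAfter β h⁻¹) a := by
    refine fx_of_I H _ ha hfix' ?_
    intro x hx hxa
    rw [cjAfter_apply, hh x hx hxa]
    group
  obtain ⟨g, hg⟩ := A8 H _ hβ' ha hF
  refine ⟨h * g, fun x => ?_⟩
  have h1 := hg x
  rw [cjAfter_apply, inv_inv] at h1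
  have h2 : β x = h * (h⁻¹ * β x * h) * h⁻¹ := by group
  rw [h2, h1]
  group

/-- **Automorphisms preserving `D` are inner.** -/
theorem inner_of_D : ∃ g : G, ∀ x, β x = g * x * g⁻¹ := by
  obtain ⟨a, ha⟩ := D_nonempty H
  obtain ⟨g₀, hg₀⟩ := H.tr _ (hβ a ha) a ha
  have hβ' : ∀ d ∈ D, cjAfter β g₀ d ∈ D := fun d hd => H.cj _ _ (hβ d hd)
  obtain ⟨g, hg⟩ := A9 H _ hβ' ha hg₀
  refine ⟨g₀⁻¹ * g, fun x => ?_⟩
  have h1 := hg x
  rw [cjAfter_apply] at h1
  have h2 : β x = g₀⁻¹ * (g₀ * β x * g₀⁻¹) * g₀ := by group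
  rw [h2, h1]
  group

end inner

end Cfsg.Agent.Lib.OutF24
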