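import Cfsg.Agent.Lib.OutF24.Step
import Cfsg.Agent.Lib.ThreeT.F24.InvD

/-!
# Every automorphism of the derived group of type M(24) is induced by the big group
-/

set_option autoImplicit false
set_option linter.unusedSectionVars false
set_option linter.unusedVariables false
set_option linter.style.longLine false
set_option linter.unusedSimpArgs false
set_option linter.unnecessarySimpa false
set_option linter.style.haveILetI false
set_option maxRecDepth 100000

namespace Cfsg.Agent.Lib.OutF24

open Cfsg Cfsg.Agent.Lib.ThreeT.Basic Cfsg.Agent.Lib.ThreeT.Class Cfsg.Agent.Lib.ThreeT.Relations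
open Cfsg.Agent.Lib.ThreeT.Rank3 Cfsg.Agent.Lib.ThreeT.Descent
open Cfsg.Agent.Lib.ThreeT.M23 Cfsg.Agent.Lib.ThreeT.M22 Cfsg.Agent.Lib.ThreeT.M24
open Cfsg.Agent.Lib.Components.Basic Cfsg.Agent.Lib.ThreeT.M24d
open Cfsg.Agent.Lib.ThreeT.F24.CL2 Cfsg.Agent.Lib.ThreeT.F24.InvD
open scoped commutatorElement

section gen

variable {X : Type*} [Group X]

/-- The index of a centralizer is invariant under automorphisms. -/
theorem index_cent_aut (a : MulAut X) (x : X) :
    (Subgroup.centralizer ({a x} : Set X)).index = (Subgroup.centralizer ({x} : Set X)).index := by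
  have h : Subgroup.centralizer ({a x} : Set X) = (Subgroup.centralizer ({x} : Set X)).map (a : X ≃* X).toMonoidHom := by
    ext y
    rw [Subgroup.mem_map, Subgroup.mem_centralizer_singleton_iff]
    constructor
    · intro hy
      refine ⟨a.symm y, ?_, by simp⟩
      rw [Subgroup.mem_centralizer_singleton_iff]
      apply a.injective
      simpa using hy
    · rintro ⟨z, hz, rfl⟩
      rw [Subgroup.mem_centralizer_singleton_iff] at hz
      show a z * a x = a x * a z
      rw [← map_mul, hz, map_mul]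
  rw [h]
  exact Subgroup.index_map_equiv _ (a : X ≃* X)

/-- An involution with centralizer of odd index. -/
theorem exists_odd [Finite X] (h2 : 2 ∣ Nat.card X) : ∃ y : X, orderOf y = 2 ∧ ¬ 2 ∣ (Subgroup.centralizer ({y} : Set X)).index := by
  haveI : Fact (Nat.Prime 2) := ⟨Nat.prime_two⟩
  let P : Sylow 2 X := default
  have hP2 : 2 ∣ Nat.card ↥(P : Subgroup X) := P.dvd_card_of_dvd_card h2
  haveI hnt : Nontrivial ↥(P : Subgroup X) := by
    apply Finite.one_lt_card_iff_nontrivial.1
    have := Nat.le_of_dvd Nat.card_pos hP2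
    omega
  have hpg : IsPGroup 2 ↥(P : Subgroup X) := P.isPGroup'
  haveI hcn : Nontrivial (Subgroup.center ↥(P : Subgroup X)) := hpg.center_nontrivial
  have hcg : IsPGroup 2 (Subgroup.center ↥(P : Subgroup X)) := hpg.to_subgroup _
  obtain ⟨n, hn, hcard⟩ := hcg.nontrivial_iff_card.1 hcn
  have hz2 : 2 ∣ Nat.card (Subgroup.center ↥(P : Subgroup X)) := by
    rw [hcard]
    exact dvd_pow_self 2 (by omega)
  obtain ⟨z, hz⟩ := exists_prime_orderOf_dvd_card' 2 hz2
  refine ⟨((z : ↥(P : Subgroup X)) : X), ?_, ?_⟩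
  · rw [Subgroup.orderOf_coe, Subgroup.orderOf_coe]
    exact hz
  · intro hd
    have hle : (P : Subgroup X) ≤ Subgroup.centralizer ({((z : ↥(P : Subgroup X)) : X)} : Set X) := by
      intro w hw
      rw [Subgroup.mem_centralizer_singleton_iff]
      have h3 := (Subgroup.mem_center_iff.1 z.2) ⟨w, hw⟩
      exact (congrArg Subtype.val h3)
    exact P.not_dvd_index (hd.trans (Subgroup.index_dvd_of_le hle))

end gen

section main

variable {G : Type*} [Group G] [Finite G] {D : Set G}
variable {L : Subgroup G} (H : Hyp D L)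
variable {d₁ d₂ : G} (h₁ : d₁ ∈ D) (h₂ : d₂ ∈ D) (hne : d₁ ≠ d₂) (hc : Commute d₁ d₂)
variable [hLn : L.Normal]

omit [Finite G] in
/-- The index of a centralizer in `L` does not change under conjugation from the big group. -/
theorem index_conj (g : G) (x : L) :
    (Subgroup.centralizer ({MulAut.conjNormal g x} : Set L)).index = (Subgroup.centralizer ({x} : Set L)).index :=
  index_cent_aut (MulAut.conjNormal g : MulAut L) x

omit [Finite G] in
/-- Same, for conjugate elements in the big group. -/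
theorem index_of_isConj {x y : L} (h : IsConj (x : G) (y : G)) :
    (Subgroup.centralizer ({y} : Set L)).index = (Subgroup.centralizer ({x} : Set L)).index := by
  obtain ⟨g, hg⟩ := isConj_iff.1 h
  have e : y = MulAut.conjNormal g x := by
    apply Subtype.ext
    rw [MulAut.conjNormal_apply, hg]
  rw [e]
  exact index_conj g x

include H h₁ h₂ hne hc

/-- The class size of `d₁ d₂` in `L`. -/
theorem index_u (hcardL : Nat.card L = 1255205709190661721292800) (hcardF22 : Nat.card Cfsg.Spor.Fi22 = 64561751654400) :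
    (Subgroup.centralizer ({⟨d₁ * d₂, u_mem H h₁ h₂ hne hc⟩} : Set L)).index = 4860485028 := by
  have hu := u_mem H h₁ h₂ hne hc (L := L)
  have h1 := (rep_main H h₁ h₂ hne hc (L := L)).1
  have e : (Subgroup.centralizer ({⟨d₁ * d₂, hu⟩} : Set L)).map L.subtype = CLL L d₁ d₂ := by
    ext y
    constructor
    · rintro ⟨z, hz, rfl⟩
      rw [SetLike.mem_coe, Subgroup.mem_centralizer_singleton_iff] at hz
      exact mem_CLL.2 ⟨z.2, congrArg Subtype.val hz⟩
    · intro hy
      obtain ⟨h3, h4⟩ := mem_CLL.1 hy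
      refine ⟨⟨y, h3⟩, ?_, rfl⟩
      rw [SetLike.mem_coe, Subgroup.mem_centralizer_singleton_iff]
      exact Subtype.ext h4.eq
  have h2 : Nat.card ↥(Subgroup.centralizer ({⟨d₁ * d₂, hu⟩} : Set L)) = Nat.card ↥(CLL L d₁ d₂) := by
    rw [← e]
    exact (Subgroup.card_map_of_injective L.subtype_injective).symm
  have h3 := Subgroup.card_mul_index (Subgroup.centralizer ({⟨d₁ * d₂, hu⟩} : Set L))
  rw [h2, h1, hcardF22, hcardL] at h3
  omega

/-- **Every automorphism of `L` is conjugation from the big group.** -/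
theorem stepA (hp : IsPrimitiveUnderConj D)
    (hE : ∀ a : MulAut ↥(MM L d₁), ∃ m : ↥(MM L d₁), ∀ x : ↥(MM L d₁), ((a x : ↥(MM L d₁)) : G) = (m : G) * (x : G) * (m : G)⁻¹)
    (hinv : ∀ x : G, orderOf x = 2 → ∃ m, 1 ≤ m ∧ m ≤ 4 ∧ PP D m x)
    (hcj : ∀ m, 1 ≤ m → m ≤ 4 → ∀ x y : G, PP D m x → PP D m y → IsConj x y)
    (hcardL : Nat.card L = 1255205709190661721292800) (hcardF22 : Nat.card Cfsg.Spor.Fi22 = 64561751654400)
    (f : MulAut L) : Inner f := by
  classical
  have hD := H.hG.1
  haveI : Fact (Nat.Prime 2) := ⟨Nat.prime_two⟩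
  have hu := u_mem H h₁ h₂ hne hc (L := L)
  set x₀ : L := ⟨d₁ * d₂, hu⟩ with hx₀
  have hdd₁ := mul_self_of_mem hD h₁
  have hdd₂ := mul_self_of_mem hD h₂
  have hx1 : x₀ ≠ 1 := by
    intro e
    have e2 : d₁ * d₂ = 1 := congrArg Subtype.val e
    apply hne
    calc d₁ = d₁ * (d₂ * d₂) := by rw [hdd₂, mul_one]
      _ = (d₁ * d₂) * d₂ := by rw [mul_assoc]
      _ = d₂ := by rw [e2, one_mul]
  have hx2 : x₀ * x₀ = 1 := by
    apply Subtype.ext
    show d₁ * d₂ * (d₁ * d₂) = 1
    calc d₁ * d₂ * (d₁ * d₂) = d₁ * (d₂ * d₁) * d₂ := by group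
      _ = d₁ * (d₁ * d₂) * d₂ := by rw [hc.eq]
      _ = (d₁ * d₁) * (d₂ * d₂) := by group
      _ = 1 := by rw [hdd₁, hdd₂, one_mul]
  have hix := index_u H h₁ h₂ hne hc hcardL hcardF22
  have hPu : PP D 2 (d₁ * d₂) := by
    refine ⟨[d₁, d₂], ?_, rfl, ?_, ?_, by simp⟩
    · simpa using hne
    · simp [h₁, h₂]
    · simp only [List.mem_cons, List.not_mem_nil, or_false]
      rintro a (rfl | rfl) b (rfl | rfl)
      · exact Commute.refl _
      · exact hc
      · exact hc.symm
      · exact Commute.refl _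
  -- the odd involution
  have h2L : 2 ∣ Nat.card L := by
    rw [hcardL]
    norm_num
  obtain ⟨y, hy2, hyodd⟩ := exists_odd h2L
  have hparity : ∀ (v : L) {m : ℕ}, PP D m (v : G) → Even m := fun v m h => (h.parity H.hLi H.hLD).1 v.2
  have h2ev : ∀ v : L, PP D 2 (v : G) → 2 ∣ (Subgroup.centralizer ({v} : Set L)).index := by
    intro v hv
    have h3 := hcj 2 (by norm_num) (by norm_num) _ _ hPu hv
    rw [index_of_isConj (x := x₀) (y := v) h3, hix]
    norm_num
  have hy4 : PP D 4 (y : G) := by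
    obtain ⟨m, hm1, hm4, hm⟩ := hinv (y : G) (by rw [Subgroup.orderOf_coe]; exact hy2)
    have hev := hparity y hm
    have hcases : m = 2 ∨ m = 4 := by
      obtain ⟨k, hk⟩ := hev
      omega
    rcases hcases with rfl | rfl
    · exact absurd (h2ev y hm) hyodd
    · exact hm
  -- the image of `x₀`
  set z : L := f x₀ with hz
  have hz1 : (z : G) ≠ 1 := by
    intro e
    have e2 : z = 1 := Subtype.ext e
    rw [hz, map_eq_one_iff f f.injective] at e2
    exact hx1 e2
  have hz2 : (z : G) ^ 2 = 1 := by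
    have e : z * z = 1 := by
      rw [hz, ← map_mul, hx2, map_one]
    rw [pow_two]
    exact congrArg Subtype.val e
  have hzo : orderOf (z : G) = 2 := orderOf_eq_prime hz2 hz1
  have hiz : (Subgroup.centralizer ({z} : Set L)).index = 4860485028 := by
    rw [hz, index_cent_aut f x₀, hix]
  have hz2' : PP D 2 (z : G) := by
    obtain ⟨m, hm1, hm4, hm⟩ := hinv (z : G) hzo
    have hev := hparity z hm
    have hcases : m = 2 ∨ m = 4 := by
      obtain ⟨k, hk⟩ := hev
      omega
    rcases hcases with rfl | rfl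
    · exact hm
    · exfalso
      have h3 := hcj 4 (by norm_num) (by norm_num) _ _ hm hy4
      have h4 := index_of_isConj (x := z) (y := y) h3
      rw [hiz] at h4
      rw [h4] at hyodd
      exact hyodd (by norm_num)
  obtain ⟨g, hg⟩ := isConj_iff.1 (hcj 2 (by norm_num) (by norm_num) _ _ hz2' hPu)
  refine inner_of_peel f g⁻¹ ?_
  refine stepB H h₁ h₂ hne hc hp hE _ ?_
  apply Subtype.ext
  rw [peel_apply]
  have e : ((f ⟨d₁ * d₂, u_mem H h₁ h₂ hne hc⟩ : L) : G) = (z : G) := rfl
  rw [e, inv_inv]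
  exact hg

omit h₁ h₂ hne hc in
/-- **The outer automorphism group.** -/
theorem card_out (hinner : ∀ f : MulAut L, Inner f) (hZL : Subgroup.center ↥L = ⊥) (hZG : Subgroup.center G = ⊥) :
    Nat.card (Cfsg.Out ↥L) = 2 := by
  let Φ : G →* MulAut ↥L := MulAut.conjNormal
  have hinj : Function.Injective Φ := by
    rw [injective_iff_map_eq_one]
    intro g hg
    have hfix : ∀ x : L, g * (x : G) * g⁻¹ = x := by
      intro x
      have h3 := congrArg (fun a : MulAut ↥L => ((a x : L) : G)) hg
      simp only [Φ, MulAut.conjNormal_apply, MulAut.one_apply] at h3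
      exact h3
    have hcomm : ∀ x ∈ L, Commute g x := by
      intro x hx
      have h3 := hfix ⟨x, hx⟩
      show g * x = x * g
      calc g * x = g * x * g⁻¹ * g := by group
        _ = x * g := by rw [h3]
    by_cases hgL : g ∈ L
    · have h3 : (⟨g, hgL⟩ : L) ∈ Subgroup.center ↥L := by
        rw [Subgroup.mem_center_iff]
        intro x
        exact Subtype.ext (hcomm x x.2).eq.symm
      rw [hZL, Subgroup.mem_bot] at h3
      exact congrArg Subtype.val h3
    · have h3 : g ∈ Subgroup.center G := by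
        rw [Subgroup.mem_center_iff]
        intro a
        by_cases ha : a ∈ L
        · exact (hcomm a ha).eq.symm
        · have h4 : a * g ∈ L := mul_mem_L H ha hgL
          have h5 := (hcomm _ h4).eq
          have h6 : g * a * g = a * g * g := by rw [mul_assoc]; exact h5
          exact (mul_right_cancel h6).symm
      rw [hZG, Subgroup.mem_bot] at h3
      exact h3
  have hsurj : Function.Surjective Φ := by
    intro f
    obtain ⟨γ, hγ⟩ := hinner f
    refine ⟨γ, ?_⟩
    ext x
    show ((MulAut.conjNormal γ x : L) : G) = ((f x : L) : G)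
    rw [MulAut.conjNormal_apply, hγ]
  have hmap : Cfsg.Inn ↥L = L.map Φ := by
    ext f
    constructor
    · rintro ⟨x, rfl⟩
      exact ⟨x, x.2, MulAut.conjNormal_val⟩
    · rintro ⟨x, hx, rfl⟩
      exact ⟨⟨x, hx⟩, (MulAut.conjNormal_val (h := ⟨x, hx⟩)).symm⟩
  have h3 : (Cfsg.Inn ↥L).index = 2 := by
    rw [hmap, Subgroup.index_map_of_bijective ⟨hinj, hsurj⟩]
    exact H.hLi
  exact h3

/-- The centre of the big group is trivial. -/
theorem center_eq_bot : Subgroup.center G = ⊥ := by
  rw [eq_bot_iff]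
  intro z hz
  rw [Subgroup.mem_bot]
  have key : ∀ w ∈ D, z = 1 ∨ z = w := by
    intro w hw
    have hz1 : z ∈ Subgroup.closure (Da D w) := by
      rw [(H.hcent w hw).2, Subgroup.mem_centralizer_singleton_iff]
      exact ((Subgroup.mem_center_iff.1 hz) w).symm
    refine H.hone w hw z hz1 ?_
    have hz2 : (⟨z, hz1⟩ : ↥(Subgroup.closure (Da D w))) ∈ Subgroup.center ↥(Subgroup.closure (Da D w)) := by
      rw [Subgroup.mem_center_iff]
      intro y
      exact Subtype.ext ((Subgroup.mem_center_iff.1 hz) y)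
    have h3 := (QuotientGroup.eq_one_iff (N := Subgroup.center ↥(Subgroup.closure (Da D w))) _).2 hz2
    exact (phi_eq_of_coe rfl).trans h3
  rcases key d₁ h₁ with h | h
  · exact h
  · rcases key d₂ h₂ with h' | h'
    · exact h'
    · exact absurd (h.symm.trans h') hne

/-- **Abstract form**: the derived group of type M(24) has `|Out| = 2`. -/
theorem main_out (hp : IsPrimitiveUnderConj D)
    (hinv : ∀ x : G, orderOf x = 2 → ∃ m, 1 ≤ m ∧ m ≤ 4 ∧ PP D m x)
    (hcj : ∀ m, 1 ≤ m → m ≤ 4 → ∀ x y : G, PP D m x → PP D m y → IsConj x y)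
    (hcardL : Nat.card L = 1255205709190661721292800) (hcardF22 : Nat.card Cfsg.Spor.Fi22 = 64561751654400)
    (hOut : Nat.card (Cfsg.Out Cfsg.Spor.Fi23) = 1)
    (hF : Nonempty (Cfsg.Spor.Fi23 ≃* (Gd D d₁ ⧸ Subgroup.center (Gd D d₁))))
    (hZL : Subgroup.center ↥L = ⊥) :
    Nat.card (Cfsg.Out ↥L) = 2 := by
  refine card_out H ?_ hZL (center_eq_bot H h₁ h₂ hne hc)
  exact stepA H h₁ h₂ hne hc hp (exists_inner_MM H h₁ hOut hF h₂ hne hc) hinv hcj hcardL hcardF22

end main

end Cfsg.Agent.Lib.OutF24
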