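import Cfsg.Agent.Lib.ThreeT.F24.CL2

/-!
# Automorphisms of the centralizer `K = L ∩ C(d₁, d₂)`

Every automorphism of `K` is induced by an element of `C_L(d₁ d₂)`.
-/

set_option autoImplicit false
set_option linter.unusedSectionVars false
set_option linter.unusedVariables false
set_option linter.style.longLine false
set_option linter.unusedSimpArgs false
set_option linter.unnecessarySimpa false
set_option linter.style.haveILetI false
set_option maxRecDepth 100000

namespace Cfsg.Agent.Lib.OutF24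

open Cfsg Cfsg.Agent.Lib.ThreeT.Basic Cfsg.Agent.Lib.ThreeT.Class Cfsg.Agent.Lib.ThreeT.Relations
open Cfsg.Agent.Lib.ThreeT.Rank3 Cfsg.Agent.Lib.ThreeT.Descent
open Cfsg.Agent.Lib.ThreeT.M23 Cfsg.Agent.Lib.ThreeT.M22 Cfsg.Agent.Lib.ThreeT.M24
open Cfsg.Agent.Lib.Components.Basic Cfsg.Agent.Lib.ThreeT.M24d
open Cfsg.Agent.Lib.ThreeT.F24.CL2
open scoped commutatorElement

section aut

variable {T : Type*} [Group T]

/-- Two automorphisms of a perfect group agreeing modulo the centre are equal. -/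
theorem eq_of_autQ (hP : commutator T = ⊤) {a b : MulAut T} (h : autQ T a = autQ T b) : a = b := by
  have h2 : ∀ t : T, (a * b⁻¹) t * t⁻¹ ∈ Subgroup.center T := by
    intro t
    have h3 : autQ T (a * b⁻¹) = 1 := by
      rw [map_mul, map_inv, h, mul_inv_cancel]
    have h4 := congrArg (fun c : MulAut (T ⧸ Subgroup.center T) => c (QuotientGroup.mk t)) h3
    simp only [autQ_mk, MulAut.one_apply] at h4
    have h5 := (QuotientGroup.eq (s := Subgroup.center T)).1 h4
    have h5' := Subgroup.inv_mem _ h5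
    set x := (a * b⁻¹) t with hx
    have h9 := (Subgroup.mem_center_iff.1 h5') t
    have e9 : x * t⁻¹ = (x⁻¹ * t)⁻¹ := by
      have e10 : x = t * (x⁻¹ * t)⁻¹ := by group
      calc x * t⁻¹ = (t * (x⁻¹ * t)⁻¹) * t⁻¹ := by rw [← e10]
        _ = ((x⁻¹ * t)⁻¹ * t) * t⁻¹ := by rw [h9]
        _ = _ := by group
    rw [e9]
    exact h5'
  have h5 := eq_of_central_diff hP ((a * b⁻¹ : MulAut T) : T ≃* T).toMonoidHom h2
  have h6 : a * b⁻¹ = 1 := by
    ext t
    exact h5 t
  exact mul_inv_eq_one.1 h6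

end aut

section main

variable {G : Type*} [Group G] [Finite G] {D : Set G}
variable {L : Subgroup G} (H : Hyp D L)
variable {d₁ d₂ : G} (h₁ : d₁ ∈ D) (h₂ : d₂ ∈ D) (hne : d₁ ≠ d₂) (hc : Commute d₁ d₂)

include H h₁ h₂ hne hc

/-- **Every automorphism of the subgroup `K` comes from `C_L(d₁ d₂)`; and the order of `C_L(d₁ d₂)`.** -/
theorem rep_main : Nat.card ↥(CLL L d₁ d₂) = Nat.card Cfsg.Spor.Fi22 * 2 * 2 ∧
    ∀ a : MulAut ↥((KK L d₁ d₂).subgroupOf (CLL L d₁ d₂)), ∃ g : ↥(CLL L d₁ d₂), ∀ t : ↥((KK L d₁ d₂).subgroupOf (CLL L d₁ d₂)),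
      (((a t : ↥((KK L d₁ d₂).subgroupOf (CLL L d₁ d₂))) : ↥(CLL L d₁ d₂)) : G) = (g : G) * ((t : ↥(CLL L d₁ d₂)) : G) * (g : G)⁻¹ := by
  have hD := H.hG.1
  obtain ⟨Ψ, hΨ⟩ := exists_Psi H h₁ h₂ hne hc (L := L)
  have hf := hfacts H h₁ h₂ hne hc
  have hns := hnsdc H h₁ h₂ hne hc
  obtain ⟨hc2, ⟨e₀⟩, -⟩ := hns
  have hKQ : Cfsg.IsQuasisimple ↥(KK L d₁ d₂) := quasisimple_of_mulEquiv Ψ.symm hf.2.1
  have hle : KK L d₁ d₂ ≤ CLL L d₁ d₂ := KK_le_CLL hc
  have hTQ : Cfsg.IsQuasisimple ↥((KK L d₁ d₂).subgroupOf (CLL L d₁ d₂)) :=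
    (quasisimple_subgroupOf_iff hle).2 hKQ
  haveI hTn : ((KK L d₁ d₂).subgroupOf (CLL L d₁ d₂)).Normal := normal_T H h₁ h₂ hne hc
  have hj := j_mem H h₁ h₂ hne hc (L := L)
  have hjC : d₁ * d₂ ∈ CLL L d₁ d₂ := hle hj
  -- the generalized Fitting subgroup
  have hgf : Cfsg.generalizedFittingSubgroup ↥(CLL L d₁ d₂) = (KK L d₁ d₂).subgroupOf (CLL L d₁ d₂) := by
    refine gFit_quasi _ hTn hTQ ?_
    intro x hx
    obtain ⟨h1, h2⟩ := mem_CLL.1 x.2
    have h3 : ∀ t ∈ KK L d₁ d₂, Commute (x : G) t := by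
      intro t ht
      have := hx ⟨t, hle ht⟩ (by rw [Subgroup.mem_subgroupOf]; exact ht)
      exact congrArg Subtype.val this
    rw [Subgroup.mem_subgroupOf]
    rcases cent_K H h₁ h₂ hne hc h1 h2 h3 with h4 | h4
    · rw [h4]
      exact Subgroup.one_mem _
    · rw [h4]
      exact hj
  -- the action
  set T := (KK L d₁ d₂).subgroupOf (CLL L d₁ d₂) with hT
  let eT : T ≃* KK L d₁ d₂ := Subgroup.subgroupOfEquivOfLe hle
  let e' : (T ⧸ Subgroup.center T) ≃* Cfsg.Spor.Fi22 :=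
    (Cfsg.Agent.Lib.Classical.SympSimple.quotientCenterEquiv (eT.trans Ψ)).trans e₀
  let Θ : ↥(CLL L d₁ d₂) →* MulAut Cfsg.Spor.Fi22 :=
    (MulAut.congr e').toMonoidHom.comp ((autQ T).comp (MulAut.conjNormal (H := T)))
  have hperf : commutator T = ⊤ := quasisimple_perfect hTQ
  have hker : ∀ g : ↥(CLL L d₁ d₂), g ∈ Θ.ker ↔ ∀ t ∈ KK L d₁ d₂, Commute (g : G) t := by
    intro g
    rw [MonoidHom.mem_ker]
    constructor
    · intro h0
      have h1 : autQ T (MulAut.conjNormal g) = 1 := by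
        apply (MulAut.congr e').injective
        rw [map_one]
        exact h0
      have h2 : ∀ t : T, (MulAut.conjNormal g) t * t⁻¹ ∈ Subgroup.center T := by
        intro t
        have h3 := congrArg (fun a : MulAut (T ⧸ Subgroup.center T) => a (QuotientGroup.mk t)) h1
        simp only [autQ_mk, MulAut.one_apply] at h3
        have h4 := (QuotientGroup.eq (s := Subgroup.center T)).1 h3
        have h4' := Subgroup.inv_mem _ h4
        set x := MulAut.conjNormal g t with hx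
        have h9 := (Subgroup.mem_center_iff.1 h4') t
        have e9 : x * t⁻¹ = (x⁻¹ * t)⁻¹ := by
          have e10 : x = t * (x⁻¹ * t)⁻¹ := by group
          calc x * t⁻¹ = (t * (x⁻¹ * t)⁻¹) * t⁻¹ := by rw [← e10]
            _ = ((x⁻¹ * t)⁻¹ * t) * t⁻¹ := by rw [h9]
            _ = _ := by group
        rw [e9]
        exact h4'
      have h5 := eq_of_central_diff hperf ((MulAut.conjNormal g : MulAut T) : T ≃* T).toMonoidHom h2
      intro t ht
      have h6 := h5 ⟨⟨t, hle ht⟩, by rw [hT, Subgroup.mem_subgroupOf]; exact ht⟩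
      have h7 := congrArg (fun y : T => ((y : ↥(CLL L d₁ d₂)) : G)) h6
      simp only [MulEquiv.coe_toMonoidHom, MulAut.conjNormal_apply] at h7
      show (g : G) * t = t * (g : G)
      have h8 : (g : G) * t * (g : G)⁻¹ = t := by
        simpa using h7
      calc (g : G) * t = ((g : G) * t * (g : G)⁻¹) * (g : G) := by group
        _ = t * (g : G) := by rw [h8]
    · intro h0
      show (MulAut.congr e') (autQ T (MulAut.conjNormal g)) = 1
      have h1 : MulAut.conjNormal g = (1 : MulAut T) := by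
        ext t
        have h2 := h0 _ ((Subgroup.mem_subgroupOf).1 t.2)
        simp only [MulAut.conjNormal_apply, MulAut.one_apply]
        show (g : G) * ((t : ↥(CLL L d₁ d₂)) : G) * (g : G)⁻¹ = _
        rw [h2.eq]
        group
      rw [h1, map_one, map_one]
  have hkerz : (Subgroup.zpowers (d₁ * d₂)).subgroupOf (CLL L d₁ d₂) = Θ.ker := by
    ext g
    rw [Subgroup.mem_subgroupOf, hker]
    constructor
    · intro h1 t ht
      obtain ⟨n, hn⟩ := Subgroup.mem_zpowers_iff.1 h1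
      rw [← hn]
      obtain ⟨-, h2, h3⟩ := mem_KK.1 ht
      exact (h2.mul_left h3).zpow_left n
    · intro h1
      obtain ⟨h2, h3⟩ := mem_CLL.1 g.2
      rcases cent_K H h₁ h₂ hne hc h2 h3 h1 with h4 | h4
      · rw [h4]
        exact Subgroup.one_mem _
      · rw [h4]
        exact Subgroup.mem_zpowers _
  -- orders
  have hfinQ : Finite Cfsg.Spor.Fi22 := Finite.of_surjective _ e₀.surjective
  have hfinA : Finite (MulAut Cfsg.Spor.Fi22) :=
    Finite.of_injective (fun a : MulAut Cfsg.Spor.Fi22 => (a : Cfsg.Spor.Fi22 → Cfsg.Spor.Fi22)) DFunLike.coe_injective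
  have cC₂ : Nat.card ↥(Subgroup.closure (Da (Dq D d₁) (phi D d₁ d₂))) = Nat.card Cfsg.Spor.Fi22 * 2 := by
    rw [Subgroup.card_eq_card_quotient_mul_card_subgroup (Subgroup.center ↥(Subgroup.closure (Da (Dq D d₁) (phi D d₁ d₂)))), hc2,
      Nat.card_congr e₀.toEquiv]
  have cT : Nat.card T = Nat.card Cfsg.Spor.Fi22 * 2 := by
    rw [Nat.card_congr (eT.trans Ψ).toEquiv, cC₂]
  have hidx := index_T H h₁ h₂ hne hc
  have cC : Nat.card ↥(CLL L d₁ d₂) = Nat.card Cfsg.Spor.Fi22 * 2 * 2 := by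
    have := Subgroup.card_mul_index T
    rw [hT, hidx, ← hT, cT] at this
    exact this.symm
  have hjj : (d₁ * d₂) * (d₁ * d₂) = 1 := by
    calc (d₁ * d₂) * (d₁ * d₂) = d₁ * (d₂ * d₁) * d₂ := by group
      _ = d₁ * (d₁ * d₂) * d₂ := by rw [hc.symm.eq]
      _ = (d₁ * d₁) * (d₂ * d₂) := by group
      _ = 1 := by rw [mul_self_of_mem hD h₁, mul_self_of_mem hD h₂, one_mul]
  have hj1 : d₁ * d₂ ≠ 1 := by
    intro e
    apply hne
    have h8 := mul_self_of_mem hD h₂
    calc d₁ = d₁ * (d₂ * d₂) := by rw [h8, mul_one]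
      _ = (d₁ * d₂) * d₂ := by group
      _ = d₂ := by rw [e, one_mul]
  have hord : orderOf (d₁ * d₂) = 2 := by
    apply orderOf_eq_prime (by rw [pow_two]; exact hjj) hj1
  have cK : Nat.card Θ.ker = 2 := by
    rw [← hkerz]
    have hleZ : Subgroup.zpowers (d₁ * d₂) ≤ CLL L d₁ d₂ := by
      rw [Subgroup.zpowers_le]
      exact hjC
    rw [Nat.card_congr (Subgroup.subgroupOfEquivOfLe hleZ).toEquiv, Nat.card_zpowers, hord]
  have cQ : Nat.card (↥(CLL L d₁ d₂) ⧸ Θ.ker) = Nat.card Cfsg.Spor.Fi22 * 2 := by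
    have := Subgroup.card_eq_card_quotient_mul_card_subgroup Θ.ker
    rw [cC, cK] at this
    have h0 : 0 < 2 := by norm_num
    exact (Nat.eq_of_mul_eq_mul_right h0 this).symm
  have hZ : Subgroup.center Cfsg.Spor.Fi22 = ⊥ := by
    haveI := H.hF22
    rcases IsSimpleGroup.eq_bot_or_eq_top_of_normal (Subgroup.center Cfsg.Spor.Fi22) inferInstance with h | h
    · exact h
    · exfalso
      obtain ⟨x, y, hxy⟩ := H.hF22n
      apply hxy
      have : x ∈ Subgroup.center Cfsg.Spor.Fi22 := by rw [h]; trivial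
      exact ((Subgroup.mem_center_iff.1 this) y).symm
  have cInn : Nat.card (Cfsg.Inn Cfsg.Spor.Fi22) = Nat.card Cfsg.Spor.Fi22 := by
    have hinj : Function.Injective (MulAut.conj : Cfsg.Spor.Fi22 →* MulAut Cfsg.Spor.Fi22) := by
      rw [injective_iff_map_eq_one]
      intro a ha
      have : a ∈ Subgroup.center Cfsg.Spor.Fi22 := by
        rw [Subgroup.mem_center_iff]
        intro y
        have h3 := congrArg (fun b : MulAut Cfsg.Spor.Fi22 => b y) ha
        simp only [MulAut.conj_apply, MulAut.one_apply] at h3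
        calc y * a = (a * y * a⁻¹) * a := by rw [h3]
          _ = a * y := by group
      rw [hZ] at this
      exact Subgroup.mem_bot.1 this
    exact (Nat.card_congr (MonoidHom.ofInjective hinj).toEquiv).symm
  have cA : Nat.card (MulAut Cfsg.Spor.Fi22) = Nat.card Cfsg.Spor.Fi22 * 2 := by
    rw [Subgroup.card_eq_card_quotient_mul_card_subgroup (Cfsg.Inn Cfsg.Spor.Fi22), cInn]
    have := H.hOut
    rw [Cfsg.Out] at this
    rw [this, mul_comm]
  have hsurj : Function.Surjective Θ := by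
    have hinj := QuotientGroup.kerLift_injective Θ
    have hbij := hinj.bijective_of_nat_card_le (by rw [cQ, cA])
    intro y
    obtain ⟨q, hq⟩ := hbij.2 y
    obtain ⟨g, rfl⟩ := QuotientGroup.mk_surjective q
    exact ⟨g, hq⟩
  refine ⟨cC, fun a => ?_⟩
  obtain ⟨g, hg⟩ := hsurj (MulAut.congr e' (autQ T a))
  refine ⟨g, fun t => ?_⟩
  have h1 : autQ T (MulAut.conjNormal g) = autQ T a := (MulAut.congr e').injective hg
  have h2 := eq_of_autQ hperf h1
  rw [← h2]
  simp only [MulAut.conjNormal_apply]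
  rfl

end main

end Cfsg.Agent.Lib.OutF24
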