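import Cfsg.Agent.Lib.OutF24.Cls

/-!
# Automorphisms of `L` permute the stars
-/

set_option autoImplicit false
set_option linter.unusedSectionVars false
set_option linter.unusedVariables false
set_option linter.style.haveILetI false

namespace Cfsg.Agent.Lib.OutF24

variable {G : Type*} [Group G] {D : Set G} {L : Subgroup G}

/-- `x` is a letter of `t`. -/
def Has (D : Set G) (t x : G) : Prop := x ∈ D ∧ ∃ b ∈ D, b ≠ x ∧ Commute x b ∧ x * b = t

theorem has_left {a b : G} (ha : a ∈ D) (hb : b ∈ D) (hne : a ≠ b) (c : Commute a b) : Has D (a * b) a :=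
  ⟨ha, b, hb, hne.symm, c, rfl⟩

theorem has_right {a b : G} (ha : a ∈ D) (hb : b ∈ D) (hne : a ≠ b) (c : Commute a b) : Has D (a * b) b :=
  ⟨hb, a, ha, hne, c.symm, c.symm.eq⟩

theorem E2_of_N {d e : G} (hd : d ∈ D) (he : e ∈ N D d) : E2 D (d * e) :=
  ⟨d, hd, e, he.1, he.2.1.symm, he.2.2, rfl⟩

section star

variable [Finite G] (H : Ax D L)
include H

theorem has_eq {a b x : G} (ha : a ∈ D) (hb : b ∈ D) (hne : a ≠ b) (c : Commute a b) (h : Has D (a * b) x) : x = a ∨ x = b := by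
  obtain ⟨hx, u, hu, hux, cu, e⟩ := h
  rcases H.uniq x hx u hu a ha b hb hux.symm hne cu c e with h | h
  · exact Or.inl h.1
  · exact Or.inr h.1

theorem two_has {t x x' : G} (h : Has D t x) (h' : Has D t x') (hne : x ≠ x') : t = x * x' := by
  obtain ⟨hx, u, hu, hux, cu, rfl⟩ := h
  rcases has_eq H hx hu hux.symm cu h' with h2 | h2
  · exact absurd h2.symm hne
  · rw [h2]

theorem two_has_eq {t t' x x' : G} (h1 : Has D t x) (h2 : Has D t x') (h3 : Has D t' x) (h4 : Has D t' x') (hne : x ≠ x') : t = t' := by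
  rw [two_has H h1 h2 hne, two_has H h3 h4 hne]

theorem comm_of_fix {y u v : G} (hy : orderOf y = 11) (hu : u ∈ D) (hv : v ∈ D) (c1 : Commute y u) (c2 : Commute y v) : Commute u v := by
  by_contra hn
  exact H.noeleven u hu v hv hn y hy c1 c2

theorem fix_letters {y a b : G} (hy : orderOf y = 11) (ha : a ∈ D) (hb : b ∈ D) (hne : a ≠ b) (c : Commute a b) (cy : Commute y (a * b)) :
    Commute y a ∧ Commute y b := by
  have h1 : y * a * y⁻¹ ∈ D := H.cj y a ha
  have h2 : y * b * y⁻¹ ∈ D := H.cj y b hb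
  have hne' : y * a * y⁻¹ ≠ y * b * y⁻¹ := fun e => hne (mul_left_cancel (mul_right_cancel e))
  have c' : Commute (y * a * y⁻¹) (y * b * y⁻¹) := c.map (MulAut.conj y).toMonoidHom
  have e : (y * a * y⁻¹) * (y * b * y⁻¹) = a * b := by
    calc (y * a * y⁻¹) * (y * b * y⁻¹) = y * (a * b) * y⁻¹ := by group
      _ = a * b := by rw [cy.eq]; group
  have fin : ∀ u : G, y * u * y⁻¹ = u → Commute y u := by
    intro u hu
    exact mul_inv_eq_iff_eq_mul.1 hu
  rcases H.uniq _ h1 _ h2 a ha b hb hne' hne c' c e with h | h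
  · exact ⟨fin a h.1, fin b h.2⟩
  · exfalso
    have h3 : Commute (y ^ 2) a := by
      show y ^ 2 * a = a * y ^ 2
      have e1 : y * a = b * y := mul_inv_eq_iff_eq_mul.1 h.1
      have e2 : y * b = a * y := mul_inv_eq_iff_eq_mul.1 h.2
      calc y ^ 2 * a = y * (y * a) := by rw [pow_two]; group
        _ = y * (b * y) := by rw [e1]
        _ = (y * b) * y := by group
        _ = (a * y) * y := by rw [e2]
        _ = a * y ^ 2 := by rw [pow_two]; group
    have h4 : y = (y ^ 2) ^ 6 := by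
      have : y ^ 11 = 1 := by rw [← hy]; exact pow_orderOf_eq_one y
      calc y = y ^ 11 * y := by rw [this, one_mul]
        _ = (y ^ 2) ^ 6 := by rw [← pow_mul, ← pow_succ]
    have h5 : Commute y a := by
      rw [h4]
      exact h3.pow_left 6
    have h6 : y * a * y⁻¹ = a := by rw [h5.eq]; group
    exact hne (h6.symm.trans h.1)

variable (α : L ≃* L)

/-- Two adjacent members of a star have a common letter. -/
theorem share {d e f : G} (hd : d ∈ D) (he : e ∈ N D d) (hf : f ∈ N D d) (hef : e ≠ f) (cef : Commute e f) :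
    ∃ u, Has D (A α (d * e)) u ∧ Has D (A α (d * f)) u := by
  have hfe : f ∈ N D e := ⟨hf.1, hef.symm, cef⟩
  obtain ⟨y, hyL, hyo, c1, c2, c3⟩ := H.eleven d hd e he f ⟨hf, hfe⟩
  have hde : d * e ∈ L := mul_mem H hd he.1
  have hdf : d * f ∈ L := mul_mem H hd hf.1
  have hy' : orderOf (A α y) = 11 := by rw [A_ord α hyL, hyo]
  have cde : Commute (A α y) (A α (d * e)) := A_comm α hyL hde (c1.mul_right c2)
  have cdf : Commute (A α y) (A α (d * f)) := A_comm α hyL hdf (c1.mul_right c3)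
  obtain ⟨a, ha, b, hb, hab, cab, e1⟩ := A_E2 H α (E2_of_N hd he)
  obtain ⟨p, hp, q, hq, hpq, cpq, e2⟩ := A_E2 H α (E2_of_N hd hf)
  rw [← e1] at cde
  rw [← e2] at cdf
  obtain ⟨ya, yb⟩ := fix_letters H hy' ha hb hab cab cde
  obtain ⟨yp, yq⟩ := fix_letters H hy' hp hq hpq cpq cdf
  have hprod : (d * e) * (d * f) = e * f := by
    calc (d * e) * (d * f) = d * (e * d) * f := by group
      _ = d * (d * e) * f := by rw [he.2.2.symm.eq]
      _ = (d * d) * e * f := by group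
      _ = e * f := by rw [H.sq d hd, one_mul]
  have hE : E2 D (A α (e * f)) := A_E2 H α ⟨e, he.1, f, hf.1, hef, cef, rfl⟩
  rw [← hprod, A_mul α hde hdf, ← e1, ← e2] at hE
  by_contra hno
  push Not at hno
  have n1 : a ≠ p := fun h => hno a (by rw [← e1]; exact has_left ha hb hab cab) (by rw [← e2, h]; exact has_left hp hq hpq cpq)
  have n2 : a ≠ q := fun h => hno a (by rw [← e1]; exact has_left ha hb hab cab) (by rw [← e2, h]; exact has_right hp hq hpq cpq)
  have n3 : b ≠ p := fun h => hno b (by rw [← e1]; exact has_right ha hb hab cab) (by rw [← e2, h]; exact has_left hp hq hpq cpq)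
  have n4 : b ≠ q := fun h => hno b (by rw [← e1]; exact has_right ha hb hab cab) (by rw [← e2, h]; exact has_right hp hq hpq cpq)
  have hE4 : E4 D (a * b * (p * q)) :=
    ⟨a, ha, b, hb, p, hp, q, hq, hab, n1, n2, n3, n4, hpq, cab, comm_of_fix H hy' ha hp ya yp, comm_of_fix H hy' ha hq ya yq,
      comm_of_fix H hy' hb hp yb yp, comm_of_fix H hy' hb hq yb yq, cpq, by group⟩
  exact H.no24 _ hE hE4

theorem A_ne {d e f : G} (hd : d ∈ D) (he : e ∈ D) (hf : f ∈ D) (hef : e ≠ f) : A α (d * e) ≠ A α (d * f) := by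
  intro h
  exact hef (mul_left_cancel (A_inj α (mul_mem H hd he) (mul_mem H hd hf) h))

theorem R_adj {d e f g x x' : G} (hd : d ∈ D) (he : e ∈ N D d) (hf : f ∈ N D d ∩ N D e) (hg : g ∈ N D d ∩ N D e) (cfg : Commute f g)
    (hx1 : Has D (A α (d * e)) x) (hx2 : Has D (A α (d * f)) x) (hx'1 : Has D (A α (d * e)) x') (hx'2 : Has D (A α (d * g)) x') : x = x' := by
  by_contra hne
  have he1 := two_has H hx1 hx'1 hne
  have hef : e ≠ f := hf.2.2.1.symm
  have heg : e ≠ g := hg.2.2.1.symm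
  by_cases hfg : f = g
  · subst hfg
    exact A_ne H α hd he.1 hf.1.1 hef (two_has_eq H hx1 hx'1 hx2 hx'2 hne)
  · obtain ⟨hxD, c, hc, hcx, ccx, ex⟩ := hx2
    obtain ⟨hxD', c', hc', hcx', ccx', ex'⟩ := hx'2
    have n1 : c ≠ x' := by
      intro h
      rw [h] at ex
      exact A_ne H α hd he.1 hf.1.1 hef (he1.trans ex)
    have cxx' : Commute x x' := by
      obtain ⟨-, b, hb, hbx, cb, e1⟩ := hx1
      rcases has_eq H hxD hb hbx.symm cb (by rw [e1]; exact hx'1) with h | h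
      · exact absurd h.symm hne
      · rw [h]; exact cb
    have n2 : c' ≠ x := by
      intro h
      rw [h, cxx'.symm.eq] at ex'
      exact A_ne H α hd he.1 hg.1.1 heg (he1.trans ex')
    obtain ⟨u, hu1, hu2⟩ := share H α hd hf.1 hg.1 hfg cfg
    rw [← ex] at hu1
    rw [← ex'] at hu2
    have hcc : c = c' := by
      rcases has_eq H hxD hc hcx.symm ccx hu1 with h1 | h1 <;> rcases has_eq H hxD' hc' hcx'.symm ccx' hu2 with h2 | h2
      · exact absurd (h1.symm.trans h2) hne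
      · exact absurd (h2.symm.trans h1) n2
      · exact absurd (h1.symm.trans h2) n1
      · exact h1.symm.trans h2
    subst hcc
    have hdf : d * e ∈ L := mul_mem H hd he.1
    have hdg : d * f ∈ L := mul_mem H hd hf.1.1
    have h3 : A α ((d * e) * (d * f)) = A α (d * g) := by
      rw [A_mul α hdf hdg, he1, ← ex, ← ex']
      calc x * x' * (x * c) = x' * (x * x) * c := by
            rw [show x * x' * (x * c) = (x * x') * x * c by group, cxx'.eq]
            group
        _ = x' * c := by rw [H.sq x hxD]; group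
    have h4 := A_inj α (L.mul_mem hdf hdg) (mul_mem H hd hg.1.1) h3
    have h5 : (d * e) * (d * f) = e * f := by
      calc (d * e) * (d * f) = d * (e * d) * f := by group
        _ = d * (d * e) * f := by rw [he.2.2.symm.eq]
        _ = (d * d) * e * f := by group
        _ = e * f := by rw [H.sq d hd, one_mul]
    rw [h5] at h4
    rcases H.uniq e he.1 f hf.1.1 d hd g hg.1.1 hef hg.1.2.1.symm hf.2.2.2 hg.1.2.2 h4 with h | h
    · exact he.2.1 h.1
    · exact hf.1.2.1 h.2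

theorem step3c {d e : G} (hd : d ∈ D) (he : e ∈ N D d) :
    ∃ x, Has D (A α (d * e)) x ∧ ∀ f ∈ N D d ∩ N D e, Has D (A α (d * f)) x := by
  obtain ⟨f₀, hf₀⟩ := H.ne2 d hd e he
  obtain ⟨x₀, h1, h2⟩ := share H α hd he hf₀.1 hf₀.2.2.1.symm hf₀.2.2.2
  have hS := H.con2 d hd e he {f | f ∈ N D d ∩ N D e ∧ Has D (A α (d * f)) x₀} (fun f hf => hf.1) ⟨f₀, hf₀, h2⟩ (by
    rintro u ⟨hu, hu2⟩ v hv huv
    refine ⟨hv, ?_⟩
    obtain ⟨x', h3, h4⟩ := share H α hd he hv.1 hv.2.2.1.symm hv.2.2.2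
    rw [R_adj H α hd he hu hv huv h1 hu2 h3 h4]
    exact h4)
  refine ⟨x₀, h1, fun f hf => ?_⟩
  have : f ∈ {f | f ∈ N D d ∩ N D e ∧ Has D (A α (d * f)) x₀} := by rw [hS]; exact hf
  exact this.2

theorem Q_adj {d e e' x x' : G} (hd : d ∈ D) (he : e ∈ N D d) (he' : e' ∈ N D d) (c : Commute e e')
    (h1 : Has D (A α (d * e)) x) (h2 : ∀ f ∈ N D d ∩ N D e, Has D (A α (d * f)) x)
    (h1' : Has D (A α (d * e')) x') (h2' : ∀ f ∈ N D d ∩ N D e', Has D (A α (d * f)) x') : x = x' := by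
  by_contra hne
  by_cases hee : e = e'
  · subst hee
    obtain ⟨f, hf⟩ := H.ne2 d hd e he
    exact A_ne H α hd he.1 hf.1.1 hf.2.2.1.symm (two_has_eq H h1 h1' (h2 f hf) (h2' f hf) hne)
  · have m1 : e' ∈ N D d ∩ N D e := ⟨he', he'.1, fun h => hee h.symm, c⟩
    have m2 : e ∈ N D d ∩ N D e' := ⟨he, he.1, hee, c.symm⟩
    exact A_ne H α hd he.1 he'.1 hee (two_has_eq H h1 (h2' e m2) (h2 e' m1) h1' hne)

theorem N_nonempty {d : G} (hd : d ∈ D) : (N D d).Nonempty := by
  apply Set.nonempty_of_ncard_ne_zero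
  rw [H.cardN d hd]
  norm_num

theorem step3e {d : G} (hd : d ∈ D) : ∃ p, p ∈ D ∧ ∀ e ∈ N D d, Has D (A α (d * e)) p := by
  obtain ⟨e₀, he₀⟩ := N_nonempty H hd
  obtain ⟨x₀, h1, h2⟩ := step3c H α hd he₀
  have hS := H.con1 d hd {e | e ∈ N D d ∧ Has D (A α (d * e)) x₀ ∧ ∀ f ∈ N D d ∩ N D e, Has D (A α (d * f)) x₀}
    (fun f hf => hf.1) ⟨e₀, he₀, h1, h2⟩ (by
    rintro u ⟨hu, hu1, hu2⟩ v hv huv
    refine ⟨hv, ?_⟩
    obtain ⟨x', h3, h4⟩ := step3c H α hd hv
    rw [Q_adj H α hd hu hv huv hu1 hu2 h3 h4]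
    exact ⟨h3, h4⟩)
  refine ⟨x₀, h1.1, fun e he => ?_⟩
  have : e ∈ {e | e ∈ N D d ∧ Has D (A α (d * e)) x₀ ∧ ∀ f ∈ N D d ∩ N D e, Has D (A α (d * f)) x₀} := by rw [hS]; exact he
  exact this.2.1

theorem exists_pi : ∃ π : G → G, ∀ d ∈ D, π d ∈ D ∧ ∀ e ∈ N D d, Has D (A α (d * e)) (π d) := by
  have h := fun d (hd : d ∈ D) => step3e H α hd
  choose! π hπ using h
  exact ⟨π, hπ⟩

variable {π : G → G} (hπ : ∀ d ∈ D, π d ∈ D ∧ ∀ e ∈ N D d, Has D (A α (d * e)) (π d))
include hπ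

theorem pi_surj {d b : G} (hd : d ∈ D) (hb : b ∈ N D (π d)) : ∃ e ∈ N D d, A α (d * e) = π d * b := by
  have hpd := (hπ d hd).1
  have hm : ∀ e ∈ N D d, π d * A α (d * e) ∈ N D (π d) := by
    intro e he
    obtain ⟨-, u, hu, hup, cu, e1⟩ := (hπ d hd).2 e he
    rw [← e1]
    have : π d * (π d * u) = u := by
      rw [← mul_assoc, H.sq _ hpd, one_mul]
    rw [this]
    exact ⟨hu, hup, cu⟩
  have hinj : Set.InjOn (fun e => π d * A α (d * e)) (N D d) := by
    intro e he e' he' h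
    have h1 := mul_left_cancel h
    exact mul_left_cancel (A_inj α (mul_mem H hd he.1) (mul_mem H hd he'.1) h1)
  have him : (fun e => π d * A α (d * e)) '' (N D d) = N D (π d) := by
    apply Set.eq_of_subset_of_ncard_le
    · rintro _ ⟨e, he, rfl⟩
      exact hm e he
    · rw [hinj.ncard_image, H.cardN d hd, H.cardN _ hpd]
    · exact Set.toFinite _
  rw [← him] at hb
  obtain ⟨e, he, rfl⟩ := hb
  refine ⟨e, he, ?_⟩
  show A α (d * e) = π d * (π d * A α (d * e))
  rw [← mul_assoc, H.sq _ hpd, one_mul]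

theorem pi_inj {d d' : G} (hd : d ∈ D) (hd' : d' ∈ D) (h : π d = π d') : d = d' := by
  by_contra hne
  have key : ∀ e ∈ N D d, e = d' := by
    intro e he
    obtain ⟨-, b, hb, hbp, cb, e1⟩ := (hπ d hd).2 e he
    have hbN : b ∈ N D (π d') := by
      rw [← h]
      exact ⟨hb, hbp, cb⟩
    obtain ⟨e', he', e2⟩ := pi_surj H α hπ hd' hbN
    rw [← h, e1] at e2
    have h3 := A_inj α (mul_mem H hd' he'.1) (mul_mem H hd he.1) e2
    rcases H.uniq d' hd' e' he'.1 d hd e he.1 he'.2.1.symm he.2.1.symm he'.2.2 he.2.2 h3 with h4 | h4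
    · exact absurd h4.1.symm hne
    · exact h4.1.symm
  have h1 : (N D d).ncard ≤ ({d'} : Set G).ncard := Set.ncard_le_ncard (fun e he => key e he) (Set.toFinite _)
  rw [H.cardN d hd, Set.ncard_singleton] at h1
  omega

theorem pi_comm {d e : G} (hd : d ∈ D) (he : e ∈ N D d) : A α (d * e) = π d * π e := by
  have h1 := (hπ d hd).2 e he
  have h2 := (hπ e he.1).2 d (mem_N_symm H hd he)
  rw [he.2.2.symm.eq] at h2
  exact two_has H h1 h2 (fun h => he.2.1 (pi_inj H α hπ hd he.1 h).symm)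

theorem pi_all {d e : G} (hd : d ∈ D) (he : e ∈ D) : A α (d * e) = π d * π e := by
  have hS := H.con0 {e | e ∈ D ∧ A α (d * e) = π d * π e} (fun e he => he.1) ⟨d, hd, by
    rw [H.sq d hd, A_one, H.sq _ (hπ d hd).1]⟩ (by
    rintro u ⟨hu, hu1⟩ v hv huv
    refine ⟨hv, ?_⟩
    by_cases e : u = v
    · rw [← e]; exact hu1
    · have hvN : v ∈ N D u := ⟨hv, fun h => e h.symm, huv⟩
      have e1 : d * v = (d * u) * (u * v) := by
        calc d * v = d * (u * u) * v := by rw [H.sq u hu]; group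
          _ = _ := by group
      rw [e1, A_mul α (mul_mem H hd hu) (mul_mem H hu hv), hu1, pi_comm H α hπ hu hvN]
      calc π d * π u * (π u * π v) = π d * (π u * π u) * π v := by group
        _ = π d * π v := by rw [H.sq _ (hπ u hu).1]; group)
  have : e ∈ {e | e ∈ D ∧ A α (d * e) = π d * π e} := by rw [hS]; exact he
  exact this.2

end star

end Cfsg.Agent.Lib.OutF24
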