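import Cfsg.Agent.Lib.OutF24.Gen

/-!
# Automorphisms of the derived group fixing a product of two members are inner (in the big group)
-/

set_option autoImplicit false
set_option linter.unusedSectionVars false
set_option linter.unusedVariables false
set_option linter.style.longLine false
set_option linter.unusedSimpArgs false
set_option linter.unnecessarySimpa false
set_option linter.style.haveILetI false
set_option maxRecDepth 100000

namespace Cfsg.Agent.Lib.OutF24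

open Cfsg Cfsg.Agent.Lib.ThreeT.Basic Cfsg.Agent.Lib.ThreeT.Class Cfsg.Agent.Lib.ThreeT.Relations
open Cfsg.Agent.Lib.ThreeT.Rank3 Cfsg.Agent.Lib.ThreeT.Descent
open Cfsg.Agent.Lib.ThreeT.M23 Cfsg.Agent.Lib.ThreeT.M22 Cfsg.Agent.Lib.ThreeT.M24
open Cfsg.Agent.Lib.Components.Basic Cfsg.Agent.Lib.ThreeT.M24d
open Cfsg.Agent.Lib.ThreeT.F24.CL2
open scoped commutatorElement

section gen

variable {G : Type*} [Group G] {L : Subgroup G}

/-- Two endomorphisms of `L` agreeing on a generating set agree. -/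
theorem agree_of_gen (f g : L →* L) {S : Set G} (hS : S ⊆ L) (hgen : L ≤ Subgroup.closure S)
    (h : ∀ x : L, (x : G) ∈ S → f x = g x) (x : L) : f x = g x := by
  have h1 : Subgroup.closure S ≤ (MonoidHom.eqLocus f g).map L.subtype := by
    rw [Subgroup.closure_le]
    intro y hy
    exact ⟨⟨y, hS hy⟩, h _ hy, rfl⟩
  obtain ⟨z, hz, hze⟩ := h1 (hgen x.2)
  have : z = x := Subtype.ext hze
  rw [← this]
  exact hz

/-- `f` is conjugation by an element of the big group. -/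
def Inner (f : MulAut L) : Prop := ∃ γ : G, ∀ x : L, ((f x : L) : G) = γ * (x : G) * γ⁻¹

variable [hLn : L.Normal]

/-- Peeling off a conjugation. -/
theorem inner_of_peel (f : MulAut L) (γ : G) (h : Inner ((MulAut.conjNormal γ : MulAut L)⁻¹ * f)) : Inner f := by
  obtain ⟨γ', hγ'⟩ := h
  refine ⟨γ * γ', fun x => ?_⟩
  have h1 := hγ' x
  have h2 : ((((MulAut.conjNormal γ : MulAut L)⁻¹ * f : MulAut L) x : L) : G) = γ⁻¹ * (f x : L) * γ := by
    rw [MulAut.mul_apply, MulAut.conjNormal_inv_apply]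
  rw [h2] at h1
  calc ((f x : L) : G) = γ * (γ⁻¹ * (f x : L) * γ) * γ⁻¹ := by group
    _ = γ * (γ' * (x : G) * γ'⁻¹) * γ⁻¹ := by rw [h1]
    _ = _ := by group

/-- The peeled automorphism. -/
theorem peel_apply (f : MulAut L) (γ : G) (x : L) : ((((MulAut.conjNormal γ : MulAut L)⁻¹ * f : MulAut L) x : L) : G) = γ⁻¹ * (f x : L) * γ := by
  rw [MulAut.mul_apply, MulAut.conjNormal_inv_apply]

/-- Commutators lie in a subgroup of index two. -/
theorem comm_mem_of_index_two {X : Type*} [Group X] {T : Subgroup X} (hT : T.index = 2) (a b : X) : ⁅a, b⁆ ∈ T := by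
  rw [commutatorElement_def]
  have h1 := Subgroup.mul_mem_iff_of_index_two hT (a := a * b * a⁻¹) (b := b⁻¹)
  have h2 := Subgroup.mul_mem_iff_of_index_two hT (a := a * b) (b := a⁻¹)
  have h3 := Subgroup.mul_mem_iff_of_index_two hT (a := a) (b := b)
  have h4 : a⁻¹ ∈ T ↔ a ∈ T := T.inv_mem_iff
  have h5 : b⁻¹ ∈ T ↔ b ∈ T := T.inv_mem_iff
  tauto

end gen

section main

variable {G : Type*} [Group G] [Finite G] {D : Set G}
variable {L : Subgroup G} (H : Hyp D L)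
variable {d₁ d₂ : G} (h₁ : d₁ ∈ D) (h₂ : d₂ ∈ D) (hne : d₁ ≠ d₂) (hc : Commute d₁ d₂)
variable [hLn : L.Normal]

include H h₁ h₂ hne hc

/-- Commutators of `C_L(d₁ d₂)` lie in `K`. -/
theorem comm_KK {a b : G} (ha : a ∈ CLL L d₁ d₂) (hb : b ∈ CLL L d₁ d₂) : ⁅a, b⁆ ∈ KK L d₁ d₂ := by
  have h1 := comm_mem_of_index_two (index_T H h₁ h₂ hne hc (L := L)) (⟨a, ha⟩ : ↥(CLL L d₁ d₂)) ⟨b, hb⟩
  rw [Subgroup.mem_subgroupOf] at h1
  exact h1

theorem u_mem : d₁ * d₂ ∈ L := mul_mem_L H (H.hLD _ h₁) (H.hLD _ h₂)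

/-- An automorphism of `L` fixing `d₁ d₂` preserves `K`. -/
theorem map_KK (f : MulAut L) (hf : f ⟨d₁ * d₂, u_mem H h₁ h₂ hne hc⟩ = ⟨d₁ * d₂, u_mem H h₁ h₂ hne hc⟩) (x : L) (hx : (x : G) ∈ KK L d₁ d₂) :
    ((f x : L) : G) ∈ KK L d₁ d₂ := by
  have hQ := (core H h₁ h₂ hne hc (L := L)).1
  have hP : commutator ↥(KK L d₁ d₂) = ⊤ := quasisimple_perfect hQ
  have hle : KK L d₁ d₂ ≤ L := inf_le_left
  let ψ : ↥(KK L d₁ d₂) →* G := L.subtype.comp (f.toMonoidHom.comp (Subgroup.inclusion hle))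
  have hψ : ∀ a : ↥(KK L d₁ d₂), ψ a ∈ CLL L d₁ d₂ := by
    intro a
    rw [mem_CLL]
    refine ⟨(f (Subgroup.inclusion hle a)).2, ?_⟩
    obtain ⟨-, h2, h3⟩ := mem_KK.1 a.2
    have h4 : Commute (Subgroup.inclusion hle a) (⟨d₁ * d₂, u_mem H h₁ h₂ hne hc⟩ : L) := by
      apply Subtype.ext
      exact ((h2.mul_left h3).symm).eq
    have h5 := h4.map f
    rw [hf] at h5
    exact congrArg Subtype.val h5.eq
  have h1 : commutator ↥(KK L d₁ d₂) ≤ (KK L d₁ d₂).comap ψ := by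
    rw [commutator_def, Subgroup.commutator_le]
    intro a _ b _
    rw [Subgroup.mem_comap, map_commutatorElement]
    exact comm_KK H h₁ h₂ hne hc (hψ a) (hψ b)
  have h2 := h1 (hP ▸ Subgroup.mem_top (⟨x, hx⟩ : ↥(KK L d₁ d₂)))
  exact h2

omit hLn in
theorem KK_sub_L : KK L d₁ d₂ ≤ L := inf_le_left

/-- **An automorphism fixing the stabilizer of `d₁` pointwise is inner.** -/
theorem stepG (hp : IsPrimitiveUnderConj D) (f : MulAut L) (hf : ∀ x : L, (x : G) ∈ MM L d₁ → f x = x) : Inner f := by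
  have hD := H.hG.1
  have hdd₁ := mul_self_of_mem hD h₁
  have hdi₁ : d₁⁻¹ = d₁ := inv_eq_of_mul_eq_one_left hdd₁
  obtain ⟨s, hsL, hsc, es1, es2⟩ := exists_swap H h₁ h₂ hne hc (L := L)
  set ŝ : L := ⟨s, hsL⟩ with hŝ
  set y : G := ((f ŝ : L) : G) with hy
  have hyL : y ∈ L := (f ŝ).2
  have hu := u_mem H h₁ h₂ hne hc (L := L)
  have huM : d₁ * d₂ ∈ MM L d₁ := mem_MM.2 ⟨hu, (Commute.refl d₁).mul_right hc⟩
  have hfu := hf ⟨d₁ * d₂, hu⟩ huM
  -- action on K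
  have hact : ∀ t ∈ KK L d₁ d₂, y * t * y⁻¹ = s * t * s⁻¹ := by
    intro t ht
    obtain ⟨htL, ht1, ht2⟩ := mem_KK.1 ht
    have hm : s * t * s⁻¹ ∈ KK L d₁ d₂ := by
      refine mem_KK.2 ⟨hLn.conj_mem _ htL _, ?_, ?_⟩
      · have h3 := (Cfsg.Agent.Lib.ThreeT.Rank3.commute_conj_iff s d₂ t).2 ht2
        rwa [es2] at h3
      · have h3 := (Cfsg.Agent.Lib.ThreeT.Rank3.commute_conj_iff s d₁ t).2 ht1
        rwa [es1] at h3
    have hfix1 := hf ⟨t, htL⟩ (KK_le_MM ht)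
    have hfix2 := hf ⟨s * t * s⁻¹, hLn.conj_mem _ htL _⟩ (KK_le_MM hm)
    have e : (⟨s * t * s⁻¹, hLn.conj_mem _ htL _⟩ : L) = ŝ * ⟨t, htL⟩ * ŝ⁻¹ := rfl
    rw [e, map_mul, map_mul, map_inv, hfix1] at hfix2
    exact congrArg Subtype.val hfix2
  have hyu : Commute y (d₁ * d₂) := by
    have e : ŝ * ⟨d₁ * d₂, hu⟩ = ⟨d₁ * d₂, hu⟩ * ŝ := Subtype.ext hsc.eq
    have h3 := congrArg f e
    rw [map_mul, map_mul, hfu] at h3
    exact congrArg Subtype.val h3
  have hkL : s⁻¹ * y ∈ L := L.mul_mem (L.inv_mem hsL) hyL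
  have hku : Commute (s⁻¹ * y) (d₁ * d₂) := (hsc.inv_left).mul_left hyu
  have hkK : ∀ t ∈ KK L d₁ d₂, Commute (s⁻¹ * y) t := by
    intro t ht
    have h3 := hact t ht
    show s⁻¹ * y * t = t * (s⁻¹ * y)
    calc s⁻¹ * y * t = s⁻¹ * (y * t * y⁻¹) * y := by group
      _ = s⁻¹ * (s * t * s⁻¹) * y := by rw [h3]
      _ = t * (s⁻¹ * y) := by group
  have hgen := gen_L H h₁ h₂ hne hc hp hsL hsc es1 es2
  have hS : ((MM L d₁ : Set G) ∪ {s}) ⊆ L := by
    rintro x (hx | hx)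
    · exact (mem_MM.1 hx).1
    · rw [Set.mem_singleton_iff] at hx
      rw [hx]
      exact hsL
  rcases cent_K H h₁ h₂ hne hc hkL hku hkK with h0 | h0
  · -- `f` fixes `s`
    refine ⟨1, fun x => ?_⟩
    have e : y = s := by
      have : s * (s⁻¹ * y) = s * 1 := by rw [h0]
      simpa using this
    have h3 := agree_of_gen f.toMonoidHom (MonoidHom.id L) hS hgen (by
      intro z hz
      rcases hz with hz | hz
      · exact hf z hz
      · rw [Set.mem_singleton_iff] at hz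
        have : z = ŝ := Subtype.ext hz
        rw [this]
        exact Subtype.ext e) x
    have h4 : f x = x := h3
    rw [h4]
    simp
  · refine ⟨d₁, fun x => ?_⟩
    have e : y = s * (d₁ * d₂) := by
      have : s * (s⁻¹ * y) = s * (d₁ * d₂) := by rw [h0]
      simpa using this
    have h3 := agree_of_gen f.toMonoidHom (MulAut.conjNormal d₁ : MulAut L).toMonoidHom hS hgen (by
      intro z hz
      rcases hz with hz | hz
      · apply Subtype.ext
        show ((f z : L) : G) = ((MulAut.conjNormal d₁ z : L) : G)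
        rw [hf z hz, MulAut.conjNormal_apply, ((mem_MM.1 hz).2).eq, mul_assoc, mul_inv_cancel, mul_one]
      · rw [Set.mem_singleton_iff] at hz
        have hz' : z = ŝ := Subtype.ext hz
        apply Subtype.ext
        show ((f z : L) : G) = ((MulAut.conjNormal d₁ z : L) : G)
        rw [hz', MulAut.conjNormal_apply, hdi₁]
        show y = d₁ * s * d₁
        rw [e]
        have e1 : s⁻¹ * d₁ * s = d₂ := by
          rw [← es2]
          group
        calc s * (d₁ * d₂) = s * (d₂ * d₁) := by rw [hc.eq]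
          _ = s * (s⁻¹ * d₁ * s) * d₁ := by rw [e1, mul_assoc]
          _ = d₁ * s * d₁ := by group) x
    exact congrArg Subtype.val h3

/-- **An automorphism fixing `K` pointwise is inner.** -/
theorem stepF (hp : IsPrimitiveUnderConj D)
    (hE : ∀ a : MulAut ↥(MM L d₁), ∃ m : ↥(MM L d₁), ∀ x : ↥(MM L d₁), ((a x : ↥(MM L d₁)) : G) = (m : G) * (x : G) * (m : G)⁻¹)
    (f : MulAut L) (hf : ∀ x : L, (x : G) ∈ KK L d₁ d₂ → f x = x) : Inner f := by
  obtain ⟨b, hb1, hb2⟩ := exists_b H h₁ h₂ hne hc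
  obtain ⟨hbD, hne1, hcb1⟩ := hb1
  obtain ⟨-, hne2, hcb2⟩ := hb2
  have hne1' : d₁ ≠ b := fun e => hne1 e.symm
  have hne2' : d₂ ≠ b := fun e => hne2 e.symm
  have hu3 := u_mem H h₁ hbD hne1' hcb1 (L := L)
  have hu3K : d₁ * b ∈ KK L d₁ d₂ := by
    refine mem_KK.2 ⟨hu3, (Commute.refl d₁).mul_right hcb1, hc.symm.mul_right hcb2⟩
  have key : ∀ f₀ : MulAut L, (∀ x : L, (x : G) ∈ KK L d₁ d₂ → f₀ x = x) → ∀ x : L, (x : G) ∈ MM L d₁ → ((f₀ x : L) : G) ∈ MM L d₁ := by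
    intro f₀ hf₀ x hx
    have hfix := hf₀ ⟨d₁ * b, hu3⟩ hu3K
    have h13 := map_KK H h₁ hbD hne1' hcb1 f₀ hfix
    have hle : KK L d₁ d₂ ⊔ KK L d₁ b ≤ ((MM L d₁).comap (L.subtype.comp f₀.toMonoidHom)).map L.subtype := by
      refine sup_le ?_ ?_
      · intro z hz
        refine ⟨⟨z, (mem_KK.1 hz).1⟩, ?_, rfl⟩
        rw [SetLike.mem_coe, Subgroup.mem_comap]
        show ((f₀ ⟨z, (mem_KK.1 hz).1⟩ : L) : G) ∈ MM L d₁
        rw [hf₀ _ hz]
        exact KK_le_MM hz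
      · intro z hz
        refine ⟨⟨z, (mem_KK.1 hz).1⟩, ?_, rfl⟩
        rw [SetLike.mem_coe, Subgroup.mem_comap]
        exact KK_le_MM (h13 ⟨z, (mem_KK.1 hz).1⟩ hz)
    obtain ⟨z, hz, hze⟩ := hle (gen_M H h₁ h₂ hne hc hbD hne1' hcb1 hne2' hcb2 hx)
    have : z = x := Subtype.ext hze
    rw [← this]
    exact hz
  have hfs : ∀ x : L, (x : G) ∈ KK L d₁ d₂ → f.symm x = x := by
    intro x hx
    rw [MulEquiv.symm_apply_eq]
    exact (hf x hx).symm
  have hsub : MM L d₁ ≤ L := inf_le_left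
  let aM : MulAut ↥(MM L d₁) :=
    { toFun := fun x => ⟨((f ⟨x, hsub x.2⟩ : L) : G), key f hf ⟨x, hsub x.2⟩ x.2⟩
      invFun := fun x => ⟨((f.symm ⟨x, hsub x.2⟩ : L) : G), key f.symm hfs ⟨x, hsub x.2⟩ x.2⟩
      left_inv := by
        intro x
        apply Subtype.ext
        simp
      right_inv := by
        intro x
        apply Subtype.ext
        simp
      map_mul' := by
        intro x y
        apply Subtype.ext
        show ((f (⟨x, hsub x.2⟩ * ⟨y, hsub y.2⟩) : L) : G) = _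
        rw [map_mul]
        rfl }
  obtain ⟨m, hm⟩ := hE aM
  refine inner_of_peel f (m : G) ?_
  refine stepG H h₁ h₂ hne hc hp _ ?_
  intro x hx
  apply Subtype.ext
  rw [peel_apply]
  have h3 := hm ⟨x, hx⟩
  have h4 : ((aM ⟨x, hx⟩ : ↥(MM L d₁)) : G) = ((f x : L) : G) := rfl
  rw [h4] at h3
  rw [h3]
  group

/-- **An automorphism of `L` fixing `d₁ d₂` is inner.** -/
theorem stepB (hp : IsPrimitiveUnderConj D)
    (hE : ∀ a : MulAut ↥(MM L d₁), ∃ m : ↥(MM L d₁), ∀ x : ↥(MM L d₁), ((a x : ↥(MM L d₁)) : G) = (m : G) * (x : G) * (m : G)⁻¹)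
    (f : MulAut L) (hf : f ⟨d₁ * d₂, u_mem H h₁ h₂ hne hc⟩ = ⟨d₁ * d₂, u_mem H h₁ h₂ hne hc⟩) : Inner f := by
  have hle := KK_le_CLL (L := L) hc
  have hfs : f.symm ⟨d₁ * d₂, u_mem H h₁ h₂ hne hc⟩ = ⟨d₁ * d₂, u_mem H h₁ h₂ hne hc⟩ := by
    rw [MulEquiv.symm_apply_eq]
    exact hf.symm
  have key := map_KK H h₁ h₂ hne hc f hf
  have keys := map_KK H h₁ h₂ hne hc f.symm hfs
  have hsub : ∀ t : ↥((KK L d₁ d₂).subgroupOf (CLL L d₁ d₂)), ((t : ↥(CLL L d₁ d₂)) : G) ∈ KK L d₁ d₂ := fun t => Subgroup.mem_subgroupOf.1 t.2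
  let aT : MulAut ↥((KK L d₁ d₂).subgroupOf (CLL L d₁ d₂)) :=
    { toFun := fun t => ⟨⟨((f ⟨(t : ↥(CLL L d₁ d₂)), (mem_KK.1 (hsub t)).1⟩ : L) : G), hle (key _ (hsub t))⟩, Subgroup.mem_subgroupOf.2 (key _ (hsub t))⟩
      invFun := fun t => ⟨⟨((f.symm ⟨(t : ↥(CLL L d₁ d₂)), (mem_KK.1 (hsub t)).1⟩ : L) : G), hle (keys _ (hsub t))⟩, Subgroup.mem_subgroupOf.2 (keys _ (hsub t))⟩
      left_inv := by
        intro x
        apply Subtype.ext
        apply Subtype.ext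
        simp
      right_inv := by
        intro x
        apply Subtype.ext
        apply Subtype.ext
        simp
      map_mul' := by
        intro x y
        apply Subtype.ext
        apply Subtype.ext
        show ((f (⟨(x : ↥(CLL L d₁ d₂)), (mem_KK.1 (hsub x)).1⟩ * ⟨(y : ↥(CLL L d₁ d₂)), (mem_KK.1 (hsub y)).1⟩) : L) : G) = _
        rw [map_mul]
        rfl }
  obtain ⟨g, hg⟩ := (rep_main H h₁ h₂ hne hc (L := L)).2 aT
  refine inner_of_peel f (g : G) ?_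
  refine stepF H h₁ h₂ hne hc hp hE _ ?_
  intro x hx
  apply Subtype.ext
  rw [peel_apply]
  have h3 := hg ⟨⟨x, hle hx⟩, Subgroup.mem_subgroupOf.2 hx⟩
  have h4 : (((aT ⟨⟨x, hle hx⟩, Subgroup.mem_subgroupOf.2 hx⟩ : ↥((KK L d₁ d₂).subgroupOf (CLL L d₁ d₂))) : ↥(CLL L d₁ d₂)) : G) = ((f x : L) : G) := rfl
  rw [h4] at h3
  rw [h3]
  simp only
  group

end main

section outer

variable {G : Type*} [Group G] [Finite G] {D : Set G}
variable {L : Subgroup G} (H : Hyp D L)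
variable {d₁ : G} (h₁ : d₁ ∈ D)

include H h₁

/-- **Every automorphism of the stabilizer of `d₁` is inner**, given `Out(Fi₂₃) = 1`. -/
theorem exists_inner_MM (hOut : Nat.card (Cfsg.Out Cfsg.Spor.Fi23) = 1)
    (hF : Nonempty (Cfsg.Spor.Fi23 ≃* (Gd D d₁ ⧸ Subgroup.center (Gd D d₁))))
    {d₂ : G} (h₂ : d₂ ∈ D) (hne : d₁ ≠ d₂) (hc : Commute d₁ d₂)
    (a : MulAut ↥(MM L d₁)) : ∃ m : ↥(MM L d₁), ∀ x : ↥(MM L d₁), ((a x : ↥(MM L d₁)) : G) = (m : G) * (x : G) * (m : G)⁻¹ := by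
  obtain ⟨ρ, -⟩ := exists_rho H h₁ h₂ hne hc (L := L)
  obtain ⟨e₀⟩ := hF
  let e : ↥(MM L d₁) ≃* Cfsg.Spor.Fi23 := ρ.trans e₀.symm
  have hI : Cfsg.Inn Cfsg.Spor.Fi23 = ⊤ := by
    apply Subgroup.index_eq_one.1
    exact hOut
  have h1 : MulAut.congr e a ∈ Cfsg.Inn Cfsg.Spor.Fi23 := by
    rw [hI]
    trivial
  obtain ⟨c, hc2⟩ := h1
  refine ⟨e.symm c, fun x => ?_⟩
  have h3 := congrArg (fun b : MulAut Cfsg.Spor.Fi23 => b (e x)) hc2
  simp only [MulAut.conj_apply] at h3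
  have h4 : MulAut.congr e a (e x) = e (a x) := by
    simp [MulAut.congr]
  rw [h4] at h3
  have h5 : a x = e.symm c * x * (e.symm c)⁻¹ := by
    apply e.injective
    rw [← h3]
    simp
  rw [h5]
  rfl

end outer

end Cfsg.Agent.Lib.OutF24
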