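import Cfsg.Agent.Lib.OutF24.Par
import Cfsg.Agent.S5465
import Cfsg.Agent.S5400
import Cfsg.Agent.S2080
import Cfsg.Agent.S1696

/-!
# The outer automorphism group of the derived group of a group of type M(24)
-/

set_option autoImplicit false
set_option linter.unusedSectionVars false
set_option linter.unusedVariables false
set_option linter.style.longLine false
set_option linter.style.haveILetI false

namespace Cfsg.Agent.Lib.OutF24

open Cfsg Cfsg.Agent.Lib.ThreeT.Basic Cfsg.Agent.Lib.ThreeT.Class Cfsg.Agent.Lib.ThreeT.Relations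
open Cfsg.Agent.Lib.ThreeT.Rank3 Cfsg.Agent.Lib.ThreeT.Descent
open Cfsg.Agent.Lib.ThreeT.M23 Cfsg.Agent.Lib.ThreeT.M22 Cfsg.Agent.Lib.ThreeT.M24
open Cfsg.Agent.Lib.Components.Basic Cfsg.Agent.Lib.ThreeT.M24d
open Cfsg.Agent.Lib.ThreeT.F24

/-- **`|Out(G')| = 2` for a primitive 3-transposition group `G` of type M(24).** -/
theorem out_of_type {G : Type*} [Group G] [Finite G] {D : Set G} (hD : IsThreeTranspositionGroup D)
    (hprim : IsPrimitiveUnderConj D) (h24 : IsOfTypeM24 G D) : Nat.card (Cfsg.Out ↥(commutator G)) = 2 := by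
  obtain ⟨d₀, hd₀, h3, h2⟩ := PrimLev.exists_core hD hprim h24
  have H : CL2.Hyp D (commutator G) := Cfsg.Agent.S5465.hyp hD hprim d₀ hd₀ h3 h2 h24
  obtain ⟨φ, hφ⟩ := Iso.exists_iso' hD hprim h24
  have hF := FactsTC.facts
  have hs := Cfsg.Agent.S5400.result hD hprim d₀ hd₀ h3 h2 h24
  obtain ⟨e₁, e₂, F, i1, i2, i3, P⟩ := exists_pk4 hD hprim hd₀ h3 h2 h24
  obtain ⟨d₁, h₁, d₂, h₂, hne, hc⟩ := P.hw
  have Lw := H.hlw d₁ h₁
  obtain ⟨ψ, -⟩ := Cfsg.Agent.Lib.ThreeT.F23.exists_iso Lw.hG Lw.hp Lw.h23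
  have hcardL : Nat.card ↥(commutator G) = 1255205709190661721292800 := by
    have h1 := Subgroup.card_mul_index (commutator G)
    rw [H.hLi, Facts.card_G hF φ] at h1
    omega
  have hZL : Subgroup.center ↥(commutator G) = ⊥ := by
    haveI hsimple := Facts.simple_commutator hF φ
    rcases (inferInstance : IsSimpleGroup ↥(commutator G)).eq_bot_or_eq_top_of_normal (Subgroup.center ↥(commutator G)) inferInstance with h | h
    · exact h
    · exfalso
      obtain ⟨x, y, hxy⟩ := Facts.noncomm_commutator hF φ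
      apply hxy
      have hx : x ∈ Subgroup.center ↥(commutator G) := by
        rw [h]
        trivial
      exact ((Subgroup.mem_center_iff.1 hx) y).symm
  exact main_out H h₁ h₂ hne hc hprim hs.1 (fun m h1 h4 x y hx hy => (hs.2.1 m h1 h4).2 x y hx hy) hcardL
    Cfsg.Agent.S1696.result.2 Cfsg.Agent.S2080.result ⟨ψ⟩ hZL

/-- **`|Out(Fi₂₄')| = 2`, given a group of type M(24).** -/
theorem out_Fi24' {G : Type*} [Group G] [Finite G] {D : Set G} (hD : IsThreeTranspositionGroup D)
    (hprim : IsPrimitiveUnderConj D) (h24 : IsOfTypeM24 G D) : Nat.card (Cfsg.Out Cfsg.Spor.Fi24') = 2 := by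
  obtain ⟨φ, -⟩ := Iso.exists_iso' hD hprim h24
  rw [Cfsg.Agent.Lib.PermComp.OutP.card_out_congr (Facts.commEquiv φ)]
  exact out_of_type hD hprim h24

end Cfsg.Agent.Lib.OutF24
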